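import Cfsg.Agent.Lib.Lie.Chev.FieldCentral
import Cfsg.Agent.Lib.Lie.Chev.SL2Root
import Cfsg.Agent.Lib.Lie.Chev.Simple
import Cfsg.Agent.Lib.Lie.Chev.WCl

/-!
# Overgroups of a subfield subgroup: the setting
-/

set_option autoImplicit false
set_option linter.unusedSectionVars false

namespace CfsgLib.Lie.Chev.Sub

open Cfsg.Lie
open scoped MatrixGroups

variable {D : ChevalleyDatum} {K : Type*} [Field K]

/-- a subgroup of the Chevalley group containing the root elements with fixed parameters -/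
structure Over (C : Full D) (σ : K →+* K) (H : Subgroup (GL D.Idx K)) : Prop where
  le : H ≤ D.group K
  lfix_le : Lfix C.G σ ≤ H

/-- a subgroup containing all fixed points contains these root elements -/
theorem Over.of_fix_le {C : Full D} {σ : K →+* K} {H : Subgroup (GL D.Idx K)} (hle : H ≤ D.group K)
    (hfix : ∀ g ∈ D.group K, fmap D σ g = g → g ∈ H) : Over C σ H := by
  refine ⟨hle, ?_⟩
  rw [Lfix, Subgroup.closure_le]
  rintro g ⟨r, t, ht, rfl⟩
  exact hfix _ (C.G.xu_mem r t) (by rw [C.G.fmap_xu, ht])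

/-- `c` is not a multiple of `q`, the five standing for all primes above three -/
def nzB (q : ℕ) (c : ℤ) : Bool := if q == 5 then [1, 2, 3].contains c.natAbs else c.natAbs % q != 0

/-- the class of a characteristic -/
def pClass (p : ℕ) : ℕ := if p ≤ 3 then p else 5

theorem pClass_cases {p : ℕ} (hp : p.Prime) : pClass p = 2 ∨ pClass p = 3 ∨ pClass p = 5 := by
  unfold pClass
  split_ifs with h
  · have := hp.two_le; omega
  · exact Or.inr (Or.inr rfl)

theorem cast_ne_zero_of_nzB (p : ℕ) [hp : Fact p.Prime] [CharP K p] {c : ℤ} (h : nzB (pClass p) c = true) :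
    (c : K) ≠ 0 := by
  intro h0
  have hdvd : p ∣ c.natAbs := Int.natCast_dvd.1 ((CharP.intCast_eq_zero_iff K p c).1 h0)
  have h2 := hp.out.two_le
  by_cases h3 : p ≤ 3
  · simp only [nzB, pClass, if_pos h3] at h
    rw [if_neg (by simp; omega)] at h
    simp [Nat.dvd_iff_mod_eq_zero.1 hdvd] at h
  · simp only [nzB, pClass, if_neg h3] at h
    simp at h
    rcases h with e | e | e <;> rw [e] at hdvd <;> have := Nat.le_of_dvd (by norm_num) hdvd <;> omega

theorem cast_eq_zero_of_nzB (p : ℕ) [hp : Fact p.Prime] [CharP K p] {c : ℤ} (hc : c.natAbs ≤ 3)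
    (h : nzB (pClass p) c = false) : (c : K) = 0 := by
  refine (CharP.intCast_eq_zero_iff K p c).2 (Int.natCast_dvd.2 ?_)
  have h2 := hp.out.two_le
  by_cases h3 : p ≤ 3
  · simp only [nzB, pClass, if_pos h3] at h
    rw [if_neg (by simp; omega)] at h
    exact Nat.dvd_of_mod_eq_zero (by simpa using h)
  · simp only [nzB, pClass, if_neg h3] at h
    simp at h
    rw [show c.natAbs = 0 by omega]
    exact dvd_zero _

variable {C : Full D} {σ : K →+* K} {H : Subgroup (GL D.Idx K)} (O : Over C σ H)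

include O

theorem Over.xu_mem {r : Fin D.nroots} {t : K} (ht : σ t = t) : C.G.xu r t ∈ H :=
  O.lfix_le (Subgroup.subset_closure ⟨r, t, ht, rfl⟩)

theorem Over.nU_mem (i : Fin D.rank) : (C.G.nU i : GL D.Idx K) ∈ H := by
  refine mul_mem (mul_mem ?_ ?_) ?_ <;> refine O.lfix_le (Subgroup.subset_closure ⟨_, _, ?_, rfl⟩) <;> simp

/-- fixed positive unipotent elements -/
theorem Over.fixU_mem {u : GL D.Idx K} (hu : u ∈ D.posUnipotent K) (hσu : fmap D σ u = u) : u ∈ H := by
  rw [C.G.posUnipotent_eq] at hu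
  obtain ⟨t, rfl⟩ := C.exists_uprod D.nroots 0 (Nat.zero_add _) u hu
  rw [C.fmap_uprod] at hσu
  have ht := C.uprod_inj D.nroots 0 (Nat.zero_add _) _ _ hσu
  refine list_prod_mem fun y hy => ?_
  obtain ⟨r, hr, rfl⟩ := List.mem_map.1 hy
  simp only [List.mem_filter, decide_eq_true_eq] at hr
  exact O.xu_mem (ht r hr.2.1 hr.2.2)

/-- conjugation by a simple reflection -/
theorem Over.xu_w_mem {i : Fin D.rank} {r : Fin D.nroots} {t : K} (h : C.G.xu r t ∈ H) :
    C.G.xu (C.G.w i r) ((C.G.eta i r : K) * t) ∈ H := by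
  have e : C.G.nU i * C.G.xu r t * (C.G.nU i)⁻¹ = C.G.xu (C.G.w i r) ((C.G.eta i r : K) * t) := by
    rw [C.G.nU_xu]; group
  exact e ▸ mul_mem (mul_mem (O.nU_mem i) h) (inv_mem (O.nU_mem i))

/-- a full root subgroup -/
theorem Over.full_w {i : Fin D.rank} {r : Fin D.nroots} (h : ∀ v, C.G.xu r v ∈ H) :
    ∀ v, C.G.xu (C.G.w i r) v ∈ H := by
  intro v
  have := O.xu_w_mem (i := i) (h ((C.G.eta i r : K) * v))
  rw [← mul_assoc] at this
  rcases C.G.eta_unit i r with e | e <;> simpa [e] using this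

end CfsgLib.Lie.Chev.Sub
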