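import Cfsg.Agent.Lib.Lie.Chev.Sub.Parab
import Cfsg.Agent.Lib.Lie.Chev.SL2Root
import Cfsg.Agent.Lib.Lie.Chev.WCl
import Cfsg.Agent.Lib.Lie.SL2NegFinite

/-!
# An overgroup of a subfield subgroup without irrational root elements consists of fixed elements

If `h` is not fixed, the conjugate `z'` of the root element `z` of the highest root is not fixed and
commutes with no fixed element of order `p`. For `p = 2` this makes a fixed involution conjugate to
`z`; for odd `p` it produces such an element from `z'` written as a conjugate of a root element.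
-/

set_option autoImplicit false
set_option linter.unusedSectionVars false

namespace CfsgLib.Lie.Chev.Sub

open Cfsg.Lie
open scoped MatrixGroups
open CfsgLib.Lie.SL2Rel (Fam)

/-- the Cartan integer of `s` at the coroot of `θ` -/
def pairB (D : ChevalleyDatum) (θ s : ℕ) : ℤ :=
  ∑ j : Fin D.rank, (D.coroot.getD θ #[]).getD j.val 0 * D.cartan j.val s

/-- the orbit of the highest root, with the commutators at it and a root orthogonal to it -/
def chkEmb (D : ChevalleyDatum) (L : ℕ → Bool) : Bool :=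
  let θ := D.nroots - 1
  L θ && decide (D.IsPosRoot θ) &&
    ((List.range D.rank).all fun i => (List.range D.nroots).all fun r => !(L r) || L (D.reflectRoot i r)) &&
    (D.posRoots.all fun r => r == θ || D.commTerms θ r == []) &&
    (D.negRoots.all fun s => !(L s) || s == D.neg θ ||
      (match D.commTerms θ s with
        | [] => true
        | [(q, _, 1, 1)] => decide (D.IsPosRoot q) && q != D.neg s && D.commTerms s q == []
        | _ => false)) &&
    D.posRoots.any fun r => r != θ && D.commTerms r (D.neg θ) == [] &&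
      D.posRoots.all fun r' => pairB D θ r' % 2 != 0 || r' == r || D.commTerms r r' == []

/-- a fundamental root outside the orbit, or two commuting fundamental roots -/
def chkInv (D : ChevalleyDatum) (L : ℕ → Bool) : Bool :=
  ((List.range D.rank).any fun i => !(L (D.simple i))) ||
    (List.range D.rank).any fun i => (List.range D.rank).any fun j =>
      Nat.blt (D.simple i) (D.simple j) && D.commTerms (D.simple i) (D.simple j) == []

variable {D : ChevalleyDatum} {K : Type*} [Field K]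

theorem mem_posRoots' {r : ℕ} : r ∈ D.posRoots ↔ r < D.nroots ∧ D.IsPosRoot r := by
  simp [ChevalleyDatum.posRoots]

section roots

variable (C : Full D)

theorem commute_of_nil {a b : Fin D.nroots} (hab : b ≠ a) (habn : b ≠ C.G.negr a)
    (h : D.commTerms a.val b.val = []) (t u : K) : Commute (C.G.xu a t) (C.G.xu b u) := by
  have hcm := C.commAt a b hab habn t u
  unfold CommAt cwR at hcm
  rw [h, List.map_nil, wordR_nil, mul_one] at hcm
  exact (Units.ext hcm).symm

theorem xu_pow (r : Fin D.nroots) (t : K) (n : ℕ) : C.G.xu r t ^ n = C.G.xu r ((n : K) * t) := by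
  induction n with
  | zero => simp [C.G.xu_zero]
  | succ n ih =>
    rw [pow_succ, ih, ← C.G.xu_add]
    push_cast
    rw [add_mul, one_mul]

theorem hd_xu_conj (θ : Fin D.nroots) (c : Kˣ) (s : Fin D.nroots) (t : K) :
    C.G.hd θ c * C.G.xu s t * (C.G.hd θ c)⁻¹ = C.G.xu s (((c ^ pairB D θ.val s.val : Kˣ) : K) * t) := by
  simp only [Good.hd, MonoidHom.comp_apply, MonoidHom.coe_mk, OneHom.coe_mk]
  rw [C.G.tor_conj_xu]
  congr 3
  simp only [Good.chi, ← zpow_mul]
  have e : pairB D θ.val s.val = ∑ l : Fin D.rank, C.G.pair θ l * C.G.rho s l := by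
    simp only [pairB, Good.pair, Finset.sum_mul]
    rw [Finset.sum_comm]
    refine Finset.sum_congr rfl fun j _ => ?_
    rw [show D.cartan j.val s.val = cart D j s from rfl, C.G.cart_eq j s, Finset.mul_sum]
    exact Finset.sum_congr rfl fun l _ => by ring
  rw [e]
  induction (Finset.univ : Finset (Fin D.rank)) using Finset.induction with
  | empty => simp
  | insert a u ha ih => rw [Finset.prod_insert ha, Finset.sum_insert ha, zpow_add, ih]

theorem conj_uprod (θ : Fin D.nroots) (c : Kˣ) (m : ℕ) (t : Fin D.nroots → K) :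
    C.G.hd θ c * C.uprod m t * (C.G.hd θ c)⁻¹ =
      C.uprod m fun s => ((c ^ pairB D θ.val s.val : Kˣ) : K) * t s := by
  rw [← MulAut.conj_apply, Full.uprod, Full.uprod, map_list_prod, List.map_map]
  congr 1
  exact List.map_congr_left fun s _ => by
    rw [Function.comp_apply, MulAut.conj_apply, hd_xu_conj]

theorem neg_one_image (θ : Fin D.nroots) :
    (C.G.sl2Fam (K := K) θ).hom (C.G.sl2Fam_mult θ) (-1) = C.G.hd θ (-1) := by
  have e : (-1 : Matrix.SpecialLinearGroup (Fin 2) K) =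
      Fam.upper (-1) * Fam.lower 1 * Fam.upper (-1) * (Fam.upper (-1) * Fam.lower 1 * Fam.upper (-1)) := by
    refine Subtype.ext ?_
    simp only [CfsgLib.Lie.SL2Rel.val_mul']
    ext a b
    fin_cases a <;> fin_cases b <;> simp [Fam.upper, Fam.lower, Matrix.mul_apply, Fin.sum_univ_two]
  rw [← C.G.hE_eq, Good.hE, Units.val_neg, Units.val_one, Good.nE, show -(-1 : K)⁻¹ = 1 by simp [inv_neg], e]
  simp only [map_mul, Fam.hom_upper, Fam.hom_lower]
  rfl

/-- the kernel of `SL(2)` at a positive root consists of involutions -/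
theorem sl2_ker_sq {θ : Fin D.nroots} (hθ : D.IsPosRoot θ.val) {x : Matrix.SpecialLinearGroup (Fin 2) K}
    (hx : (C.G.sl2Fam (K := K) θ).hom (C.G.sl2Fam_mult θ) x = 1) : x * x = 1 := by
  let φ := (C.G.sl2Fam (K := K) θ).hom (C.G.sl2Fam_mult θ)
  have hu : ∀ t, φ (Fam.upper t) = C.G.xu θ t := fun t => Fam.hom_upper _ (C.G.sl2Fam_mult θ) t
  have hl : ∀ t, φ (Fam.lower t) = C.G.xu (C.G.negr θ) t := fun t => Fam.hom_lower _ (C.G.sl2Fam_mult θ) t
  have h10 : ∀ y, φ y = 1 → y.1 1 0 = 0 := by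
    intro y hy
    by_contra hc
    set a := y.1 0 0
    set c := y.1 1 0
    have e : Fam.upper (-(a / c)) * y * Fam.upper 1 = Fam.lower (-(c ^ 2)) * (Fam.upper (-(a / c)) * y) := by
      have hdet : a * y.1 1 1 - y.1 0 1 * c = 1 := by rw [← Matrix.det_fin_two]; exact y.2
      refine Subtype.ext ?_
      rw [CfsgLib.Lie.SL2Rel.val_mul', CfsgLib.Lie.SL2Rel.val_mul', CfsgLib.Lie.SL2Rel.val_mul',
        CfsgLib.Lie.SL2Rel.val_mul']
      show (!![1, -(a / c); 0, 1] : Matrix (Fin 2) (Fin 2) K) * y.1 * !![1, 1; 0, 1] =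
        !![1, 0; -(c ^ 2), 1] * (!![1, -(a / c); 0, 1] * y.1)
      have e0 : a + -(a / c) * c = 0 := by rw [neg_mul, div_mul_cancel₀ _ hc, add_neg_cancel]
      have e1 : y.1 0 1 + -(a / c) * y.1 1 1 = -c⁻¹ := by
        field_simp
        linear_combination -hdet
      rw [show (!![1, -(a / c); 0, 1] : Matrix (Fin 2) (Fin 2) K) * y.1 = !![0, -c⁻¹; c, y.1 1 1] by
        rw [Matrix.eta_fin_two y.1, Matrix.mul_fin_two]
        ext i j
        fin_cases i <;> fin_cases j
        · simpa [a, c] using e0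
        · simpa [a, c] using e1
        · simp [c]
        · simp, Matrix.mul_fin_two, Matrix.mul_fin_two]
      ext i j
      fin_cases i <;> fin_cases j <;> simp <;> field_simp <;> ring
    have h := congrArg φ e
    simp only [map_mul, hy, mul_one, hu, hl] at h
    have h1 : C.G.xu θ (1 : K) = C.G.xu (C.G.negr θ) (-(c ^ 2)) := by
      rw [← C.G.xu_add, add_comm, C.G.xu_add] at h
      exact mul_right_cancel h
    have h2 : C.G.xu θ (1 : K) ∈ D.posUnipotent K ⊓ D.negUnipotent K :=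
      Subgroup.mem_inf.2 ⟨C.G.xu_mem_U hθ 1, h1 ▸ C.G.xu_mem_V ((C.G.isNegRoot_iff_not_pos _).2
        (fun h' => C.pos_ne_negr h' hθ (C.G.negr_negr θ).symm)) _⟩
    rw [C.G.U_inf_V_eq, Subgroup.mem_bot, C.G.xu_eq_one_iff] at h2
    exact one_ne_zero h2
  have hc := h10 x hx
  have hb : x.1 0 1 = 0 := by
    have := h10 (Fam.wel * x * Fam.wel⁻¹) (by
      show φ _ = 1
      rw [map_mul, map_mul, show φ x = 1 from hx, mul_one, ← map_mul, mul_inv_cancel, map_one])
    rw [CfsgLib.Lie.SL2Rel.val_mul', CfsgLib.Lie.SL2Rel.val_mul', Matrix.SpecialLinearGroup.coe_inv] at this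
    simp only [Fam.wel, Matrix.adjugate_fin_two] at this
    rw [Matrix.eta_fin_two x.1, Matrix.mul_fin_two, Matrix.mul_fin_two] at this
    simpa using this
  have hdet : x.1 0 0 * x.1 1 1 = 1 := by
    have h2 := x.2
    rw [Matrix.det_fin_two, hb, zero_mul, sub_zero] at h2
    exact h2
  have e : x * Fam.upper 1 = Fam.upper (x.1 0 0 ^ 2) * x := by
    refine Subtype.ext ?_
    simp only [CfsgLib.Lie.SL2Rel.val_mul']
    ext i j
    fin_cases i <;> fin_cases j <;> simp [Fam.upper, Matrix.mul_apply, Fin.sum_univ_two, hb, hc]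
    linear_combination (-(x.1 0 0)) * hdet
  have h := congrArg φ e
  simp only [map_mul, show φ x = 1 from hx, mul_one, one_mul, hu] at h
  have ha : x.1 0 0 ^ 2 = 1 := (C.G.xu_injective θ h).symm
  have hd : x.1 1 1 ^ 2 = 1 := by linear_combination (x.1 0 0 * x.1 1 1 + 1) * hdet - x.1 1 1 ^ 2 * ha
  refine Subtype.ext ?_
  simp only [CfsgLib.Lie.SL2Rel.val_mul']
  ext i j
  fin_cases i <;> fin_cases j <;> simp [Matrix.mul_apply, Fin.sum_univ_two, hb, hc, ← sq, ha, hd]

variable {L : ℕ → Bool}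

theorem emb_facts (h : chkEmb D L = true) : ∃ θ r₀ : Fin D.nroots,
    L θ.val = true ∧ D.IsPosRoot θ.val ∧
    (∀ (i : Fin D.rank) (r : Fin D.nroots), L r.val = true → L (C.G.w i r).val = true) ∧
    (∀ r : Fin D.nroots, D.IsPosRoot r.val → r ≠ θ → D.commTerms θ.val r.val = []) ∧
    (∀ s : Fin D.nroots, ¬ D.IsPosRoot s.val → L s.val = true → s ≠ C.G.negr θ →
      D.commTerms θ.val s.val = [] ∨ ∃ (q : Fin D.nroots) (c : ℤ),
        D.commTerms θ.val s.val = [(q.val, c, 1, 1)] ∧ D.IsPosRoot q.val ∧ q ≠ C.G.negr s ∧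
          D.commTerms s.val q.val = []) ∧
    D.IsPosRoot r₀.val ∧ r₀ ≠ θ ∧ D.commTerms r₀.val (C.G.negr θ).val = [] ∧
    ∀ r : Fin D.nroots, D.IsPosRoot r.val → pairB D θ.val r.val % 2 = 0 → r ≠ r₀ →
      D.commTerms r₀.val r.val = [] := by
  simp only [chkEmb, Bool.and_eq_true, decide_eq_true_eq, List.all_eq_true, List.any_eq_true, List.mem_range,
    Bool.or_eq_true, Bool.not_eq_true', beq_iff_eq, bne_iff_ne, ne_eq] at h
  obtain ⟨⟨⟨⟨⟨hθL, hθ⟩, hcl⟩, hcen⟩, hneg⟩, r₀, hr₀, ⟨hr₀θ, hr₀n⟩, hr₀c⟩ := h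
  obtain ⟨hr₀l, hr₀p⟩ := mem_posRoots'.1 hr₀
  let θ : Fin D.nroots := ⟨D.nroots - 1, hθ.1⟩
  let r : Fin D.nroots := ⟨r₀, hr₀l⟩
  have hn : ∀ x : Fin D.nroots, D.neg x.val = (C.G.negr x).val := fun x => (C.G.negr_val x).symm
  refine ⟨θ, r, hθL, hθ, fun i x hx => ?_, fun x hx hxθ => ?_, fun s hs hsL hsθ => ?_, hr₀p,
    fun e => hr₀θ (congrArg Fin.val e), by rw [← hn]; exact hr₀n, fun x hx he hxr => ?_⟩
  · rw [C.G.w_reflect]
    exact (hcl i.val i.isLt x.val x.isLt).resolve_left (by simp [hx])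
  · exact (hcen x.val (mem_posRoots'.2 ⟨x.isLt, hx⟩)).resolve_left fun e => hxθ (Fin.ext e)
  · have hs' : s.val ∈ D.negRoots := by
      simp only [ChevalleyDatum.negRoots, List.mem_filter, List.mem_range, decide_eq_true_eq]
      exact ⟨s.isLt, (C.G.isNegRoot_iff_not_pos s).2 hs⟩
    rcases hneg s.val hs' with (h | h) | h
    · simp [hsL] at h
    · exact absurd (Fin.ext (h.trans (hn θ))) hsθ
    · revert h
      split
      next e => exact fun _ => Or.inl e
      next q c e =>
        intro h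
        simp only [Bool.and_eq_true, decide_eq_true_eq, bne_iff_ne, ne_eq, beq_iff_eq] at h
        refine Or.inr ⟨⟨q, h.1.1.1⟩, c, e, h.1.1, fun e' => h.1.2 ?_, h.2⟩
        rw [hn]
        exact congrArg Fin.val e'
      next => exact fun h => absurd h (by simp)
  · exact ((hr₀c x.val (mem_posRoots'.2 ⟨x.isLt, hx⟩)).resolve_left
      (fun h' => h'.elim (fun h'' => h'' he) fun h'' => hxr (Fin.ext h'')))

theorem pw_orbit {θ : Fin D.nroots} (hθL : L θ.val = true)
    (hcl : ∀ (i : Fin D.rank) (r : Fin D.nroots), L r.val = true → L (C.G.w i r).val = true) :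
    ∀ l : List (Fin D.rank), L (C.G.pw l θ).val = true
  | [] => by simpa [C.G.pw_nil] using hθL
  | i :: l => by
    rw [← List.singleton_append, C.G.pw_append, C.G.pw_single, Equiv.Perm.mul_apply, C.G.sP_apply]
    exact hcl i _ (pw_orbit hθL hcl l)

/-- a conjugate of a root element of the highest root -/
theorem exists_conj_form {θ : Fin D.nroots} (hθL : L θ.val = true) (hθ : D.IsPosRoot θ.val)
    (hcl : ∀ (i : Fin D.rank) (r : Fin D.nroots), L r.val = true → L (C.G.w i r).val = true)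
    (hcen : ∀ r : Fin D.nroots, D.IsPosRoot r.val → r ≠ θ → D.commTerms θ.val r.val = [])
    {g : GL D.Idx K} (hg : g ∈ D.group K) :
    ∃ (u : GL D.Idx K) (s : Fin D.nroots) (c : K), u ∈ D.posUnipotent K ∧ c ≠ 0 ∧ L s.val = true ∧
      g * C.G.xu θ 1 * g⁻¹ = u * C.G.xu s c * u⁻¹ ∧ Commute u (C.G.xu θ 1) := by
  have hcomm : ∀ u ∈ D.posUnipotent K, Commute u (C.G.xu θ (1 : K)) := by
    intro u hu
    have hle : D.posUnipotent K ≤ Subgroup.centralizer {C.G.xu θ (1 : K)} := by
      rw [C.G.posUnipotent_eq_closure, Subgroup.closure_le]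
      rintro x ⟨r, a, hr, rfl⟩
      rw [SetLike.mem_coe, Subgroup.mem_centralizer_singleton_iff]
      by_cases e : r = θ
      · rw [e, ← C.G.xu_add, ← C.G.xu_add, add_comm]
      · exact (commute_of_nil C e (C.pos_ne_negr hθ hr) (hcen r hr e) 1 a).eq.symm
    exact Subgroup.mem_centralizer_singleton_iff.1 (hle hu)
  obtain ⟨b, hb, n, hn, π, hπ, u₀, hu₀, rfl⟩ := C.refined_exists hg
  obtain ⟨u, hu, h, hh, rfl⟩ := C.G.mem_borel_iff.1 hb
  obtain ⟨l, rfl⟩ := C.G.exists_pw (C.perm_mem_Wg hn hπ)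
  obtain ⟨d, hd⟩ := hπ θ
  obtain ⟨a, ha⟩ := C.G.H_conj_xu hh (C.G.pw l θ)
  refine ⟨u, C.G.pw l θ, (a : K) * ((d : K) * 1), hu, by simp, ?_, ?_, hcomm u hu⟩
  · exact pw_orbit C hθL hcl l
  · rw [← ha, ← hd]
    calc u * h * n * u₀ * C.G.xu θ 1 * (u * h * n * u₀)⁻¹
        = u * (h * (n * (u₀ * C.G.xu θ 1 * u₀⁻¹) * n⁻¹) * h⁻¹) * u⁻¹ := by group
      _ = _ := by rw [(hcomm u₀ (C.G.Uinv_le _ hu₀)).eq, mul_inv_cancel_right]

/-- a positive conjugate of a root element -/
theorem lead_of_conj {u : GL D.Idx K} (hu : u ∈ D.posUnipotent K) {s : Fin D.nroots} {c : K} (hc : c ≠ 0)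
    (hy : u * C.G.xu s c * u⁻¹ ∈ D.posUnipotent K) : D.IsPosRoot s.val := by
  by_contra hs
  have h1 : C.G.xu s c ∈ D.posUnipotent K ⊓ D.negUnipotent K :=
    Subgroup.mem_inf.2 ⟨by simpa [mul_assoc] using mul_mem (mul_mem (inv_mem hu) hy) hu,
      C.G.xu_mem_V ((C.G.isNegRoot_iff_not_pos _).2 hs) _⟩
  rw [C.G.U_inf_V_eq, Subgroup.mem_bot, C.G.xu_eq_one_iff] at h1
  exact hc h1

/-- a fixed involution not conjugate to a root element of the highest root -/
theorem exists_inv [CharP K 2] (σ : K →+* K) (hinv : chkInv D L = true) :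
    ∃ y ∈ D.posUnipotent K, fmap D σ y = y ∧ y * y = 1 ∧ y ≠ 1 ∧
      ∀ (u : GL D.Idx K) (s : Fin D.nroots) (c : K), u ∈ D.posUnipotent K → c ≠ 0 → L s.val = true →
        y ≠ u * C.G.xu s c * u⁻¹ := by
  classical
  have hsq : ∀ r : Fin D.nroots, C.G.xu r (1 : K) * C.G.xu r 1 = 1 := fun r => by
    rw [← C.G.xu_add, CharTwo.add_self_eq_zero, C.G.xu_zero]
  have hlead : ∀ (a : Fin D.rank) (v : GL D.Idx K), v ∈ C.G.Uge (K := K) ((C.G.simp' a).val + 1) →
      ∀ (u : GL D.Idx K) (s : Fin D.nroots) (c : K), u ∈ D.posUnipotent K → c ≠ 0 →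
        C.G.xu (C.G.simp' a) 1 * v = u * C.G.xu s c * u⁻¹ → s = C.G.simp' a := by
    intro a v hv u s c hu hc e
    have ha := C.G.simp_pos a
    have hs : D.IsPosRoot s.val := lead_of_conj C hu hc (e ▸ mul_mem (C.G.xu_mem_U ha 1)
      (C.G.posUnipotent_eq (K := K) ▸ C.G.Uge_mono (Nat.zero_le _) hv))
    set w := (C.G.xu s c)⁻¹ * (u * C.G.xu s c * u⁻¹)
    have hw : w ∈ C.G.Uge (K := K) (s.val + 1) := by
      have hu0 : u ∈ C.G.Uge (K := K) 0 := by rwa [← C.G.posUnipotent_eq]
      have h1 := C.Uge_comm_mem (inv_mem (C.G.xu_mem_Uge le_rfl hs c)) hu0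
      simpa [w, mul_assoc] using h1
    have e' : C.G.xu (C.G.simp' a) 1 * v = C.G.xu s c * w := by rw [e, mul_inv_cancel_left]
    rcases lt_trichotomy s.val (C.G.simp' a).val with h | h | h
    · have h0 : C.G.xu s c * w = C.G.xu s 0 * (C.G.xu (C.G.simp' a) 1 * v) := by
        rw [C.G.xu_zero, one_mul, e']
      exact absurd (C.G.lowest_unique hs hw
        (mul_mem (C.G.xu_mem_Uge (by omega) ha 1) (C.G.Uge_mono (by omega) hv)) h0).1 hc
    · exact Fin.ext h
    · have h0 : C.G.xu (C.G.simp' a) 1 * v = C.G.xu (C.G.simp' a) 0 * (C.G.xu s c * w) := by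
        rw [C.G.xu_zero, one_mul, e']
      exact absurd (C.G.lowest_unique ha hv
        (mul_mem (C.G.xu_mem_Uge (by omega) hs c) (C.G.Uge_mono (by omega) hw)) h0).1 one_ne_zero
  simp only [chkInv, Bool.or_eq_true, List.any_eq_true, List.mem_range, Bool.not_eq_true', Bool.and_eq_true,
    Nat.blt_eq, beq_iff_eq] at hinv
  rcases hinv with ⟨i, hi, hL⟩ | ⟨i, hi, j, hj, hlt, hnil⟩
  · let a : Fin D.rank := ⟨i, hi⟩
    refine ⟨C.G.xu (C.G.simp' a) 1, C.G.xu_mem_U (C.G.simp_pos a) 1, by rw [C.G.fmap_xu, map_one], hsq _,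
      fun e => one_ne_zero ((C.G.xu_eq_one_iff _ _).1 e), fun u s c hu hc hs e => ?_⟩
    have := hlead a 1 (one_mem _) u s c hu hc (by rw [mul_one]; exact e)
    rw [this, C.G.simp_val] at hs
    simp [a, hL] at hs
  · let a : Fin D.rank := ⟨i, hi⟩
    let b : Fin D.rank := ⟨j, hj⟩
    have hab : (C.G.simp' a).val < (C.G.simp' b).val := by rw [C.G.simp_val, C.G.simp_val]; exact hlt
    have hne : C.G.simp' b ≠ C.G.simp' a := fun e => by rw [e] at hab; omega
    have hne' : a ≠ b := fun e => by rw [e] at hab; omega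
    have hcm := commute_of_nil C hne (C.pos_ne_negr (C.G.simp_pos a) (C.G.simp_pos b))
      (by rw [C.G.simp_val, C.G.simp_val]; exact hnil) (1 : K) 1
    have hv : C.G.xu (C.G.simp' b) (1 : K) ∈ C.G.Uge (K := K) ((C.G.simp' a).val + 1) :=
      C.G.xu_mem_Uge hab (C.G.simp_pos b) 1
    set A := C.G.xu (C.G.simp' a) (1 : K)
    set B := C.G.xu (C.G.simp' b) (1 : K)
    let J : Finset (Fin D.rank) := Finset.univ.erase a
    have haJ : ¬ InJ C.G J (C.G.simp' a) := fun h => by
      have := h a (by simp [J])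
      rw [C.G.rho_simp, Pi.single_eq_same] at this
      exact one_ne_zero this
    have hbJ : InJ C.G J (C.G.simp' b) := C.G.inJ_simp_self (by simp [J, hne'.symm])
    have hA : A ∈ (UR C.G J : Subgroup (GL D.Idx K)) :=
      Subgroup.subset_closure ⟨_, _, ⟨C.G.simp_pos a, haJ⟩, rfl⟩
    have hB : B ∉ (UR C.G J : Subgroup (GL D.Idx K)) := fun h => one_ne_zero
      ((C.G.xu_eq_one_iff _ _).1 (C.G.eq_one_of_UR_graded h (C.G.gradedJ_xu hbJ 1)))
    refine ⟨A * B, mul_mem (C.G.xu_mem_U (C.G.simp_pos a) 1) (C.G.xu_mem_U (C.G.simp_pos b) 1),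
      by simp [A, B, C.G.fmap_xu], ?_, fun e => ?_, fun u s c hu hc hs e => ?_⟩
    · rw [mul_assoc, ← mul_assoc B, ← hcm.eq, mul_assoc, hsq, mul_one, hsq]
    · refine hB ?_
      rw [show B = A⁻¹ by rw [← inv_eq_of_mul_eq_one_right e]]
      exact inv_mem hA
    · have hsa := hlead a B hv u s c hu hc e
      refine hB ?_
      have h1 : u * C.G.xu s c * u⁻¹ ∈ (UR C.G J : Subgroup (GL D.Idx K)) :=
        (Subgroup.mem_normalizer_iff.1
          (C.PJ_le_normalizer (C.borel_le_PJ J (Subgroup.mem_sup_left hu))) _).1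
          (Subgroup.subset_closure ⟨s, c, ⟨hsa ▸ C.G.simp_pos a, hsa ▸ haJ⟩, rfl⟩)
      rw [show B = A⁻¹ * (A * B) by group, e]
      exact mul_mem (inv_mem hA) h1

end roots

variable {C : Full D} {σ : K →+* K} {H : Subgroup (GL D.Idx K)} {L : ℕ → Bool}

/-- all elements are fixed -/
theorem Over.all_fixed (O : Over C σ H) (p : ℕ) [Fact p.Prime] [CharP K p] (hH : Finite ↥H)
    (hfin : {t : K | σ t = t}.Finite) (hchk : chkSupp D = true)
    (hpair : chkPairOut D = true) (htor : chkTor D = true) (hemb : chkEmb D L = true) (hinv : p = 2 → chkInv D L = true)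
    (hu : ∀ u ∈ D.posUnipotent K, u ∈ H → fmap D σ u = u) :
    ∀ h ∈ H, fmap D σ h = h := by
  classical
  obtain ⟨θ, r₀, hθL, hθ, hcl, hcen, hneg, hr₀, hr₀θ, hr₀n, hr₀c⟩ := emb_facts C hemb
  intro h hh
  by_contra hnf
  have hp : ∀ r : Fin D.nroots, C.G.xu r (1 : K) ^ p ^ 1 = 1 := fun r => by
    rw [pow_one, xu_pow, CharP.cast_eq_zero, zero_mul, C.G.xu_zero]
  have hne : ∀ r : Fin D.nroots, C.G.xu r (1 : K) ≠ 1 := fun r e => one_ne_zero ((C.G.xu_eq_one_iff _ _).1 e)
  set z := C.G.xu θ (1 : K) with hzdef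
  have hz : z ∈ D.group K := C.G.xu_mem _ _
  have hσz : fmap D σ z = z := by rw [hzdef, C.G.fmap_xu, map_one]
  have hzH : z ∈ H := O.xu_mem (map_one σ)
  set z' := h * z * h⁻¹ with hz'
  have hz'H : z' ∈ H := mul_mem (mul_mem hh hzH) (inv_mem hh)
  have hz'nf : fmap D σ z' ≠ z' := fun e => hnf (O.conj_fixed p hfin hchk hpair htor hu hz hσz ⟨1, hp θ⟩ (hne θ) hh e)
  have hE : ∀ e ∈ D.group K, fmap D σ e = e → (∃ k : ℕ, e ^ p ^ k = 1) → e ≠ 1 → ¬ Commute z' e := by
    intro e he hσe hpe he1 hc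
    refine hz'nf (O.conj_fixed p hfin hchk hpair htor hu he hσe hpe he1 hz'H ?_)
    rw [hc.eq, mul_inv_cancel_right, hσe]
  obtain ⟨u, s, c, huU, hc, hsL, hform, hucomm⟩ := exists_conj_form C hθL hθ hcl hcen (O.le hh)
  rw [← hzdef, ← hz'] at hform
  rw [← hzdef] at hucomm
  by_cases hp2 : p = 2
  · subst hp2
    obtain ⟨y, hyU, hσy, hy2, hy1, hyc⟩ := exists_inv C σ (hinv rfl)
    have hyG : y ∈ D.group K := C.G.posUnipotent_le_group hyU
    have hz'2 : z' * z' = 1 := by
      have : z * z = 1 := by have := hp θ; rwa [pow_one, sq] at this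
      calc z' * z' = h * (z * z) * h⁻¹ := by simp only [hz']; group
        _ = 1 := by rw [this, mul_one, mul_inv_cancel]
    have hz'i : z'⁻¹ = z' := inv_eq_of_mul_eq_one_right hz'2
    have hyi : y⁻¹ = y := inv_eq_of_mul_eq_one_right hy2
    set e := y * z' with he
    have hsy : SemiconjBy y e e⁻¹ := by
      show y * e = e⁻¹ * y
      rw [he, mul_inv_rev, hz'i, hyi, mul_assoc z', hy2, mul_one, ← mul_assoc, hy2, one_mul]
    have heH : e ∈ H := mul_mem (O.fixU_mem hyU hσy) hz'H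
    have hn0 : 0 < orderOf e := by
      rw [← Subgroup.orderOf_mk e heH]
      exact orderOf_pos _
    rcases Nat.even_or_odd' (orderOf e) with ⟨m, hm | hm⟩
    · set i := e ^ m
      have hi2 : i * i = 1 := by rw [← pow_add, ← two_mul, ← hm, pow_orderOf_eq_one]
      have hi1 : i ≠ 1 := fun h1 => by
        have := Nat.le_of_dvd (by omega) (orderOf_dvd_of_pow_eq_one h1)
        omega
      have hii : i⁻¹ = i := inv_eq_of_mul_eq_one_right hi2
      have hiy : Commute y i := by
        have := hsy.pow_right m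
        rwa [inv_pow, hii] at this
      have hiH : i ∈ H := pow_mem heH m
      have hσi : fmap D σ i = i := O.conj_fixed 2 hfin hchk hpair htor hu hyG hσy ⟨1, by rw [pow_one, sq, hy2]⟩ hy1 hiH
        (by rw [← hiy.eq, mul_inv_cancel_right, hσy])
      refine hE i (O.le hiH) hσi ⟨1, by rw [pow_one, sq, hi2]⟩ hi1 ?_
      have hez : z' = y⁻¹ * e := by rw [he, inv_mul_cancel_left]
      rw [hez]
      exact (hiy.inv_left).mul_left (Commute.self_pow e m)
    · have h2 : e ^ m * e ^ m = e⁻¹ := by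
        refine eq_inv_of_mul_eq_one_left ?_
        rw [← pow_add, ← pow_succ, show m + m + 1 = 2 * m + 1 by omega, ← hm, pow_orderOf_eq_one]
      have key : (e ^ m)⁻¹ * y * e ^ m = y * z'⁻¹ * y⁻¹ := by
        have hsm : y * e ^ m = (e ^ m)⁻¹ * y := by
          have := (hsy.pow_right m).eq
          rwa [inv_pow] at this
        rw [← hsm, mul_assoc, h2, he, mul_inv_rev, mul_assoc]
      set g := e ^ m * y with hg
      have hgG : g * h ∈ D.group K :=
        mul_mem (mul_mem (pow_mem (mul_mem hyG (O.le hz'H)) m) hyG) (O.le hh)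
      have hyz : y = g * h * z * (g * h)⁻¹ := by
        calc y = e ^ m * ((e ^ m)⁻¹ * y * e ^ m) * (e ^ m)⁻¹ := by group
          _ = _ := by rw [key, hz'i, hg, hz']; group
      obtain ⟨u', s', c', hu', hc', hs', hform', -⟩ := exists_conj_form C hθL hθ hcl hcen hgG
      exact hyc u' s' c' hu' hc' hs' (by rw [hyz, hzdef, hform'])
  · by_cases hs : D.IsPosRoot s.val
    · refine hz'nf (hu _ ?_ hz'H)
      rw [hform]
      exact mul_mem (mul_mem huU (C.G.xu_mem_U hs c)) (inv_mem huU)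
    have hzu : z = u * z * u⁻¹ := by rw [hucomm.eq, mul_inv_cancel_right]
    by_cases hsn : s = C.G.negr θ
    · subst hsn
      -- minus the identity in the copy of `SL(2)`
      let φ := (C.G.sl2Fam (K := K) θ).hom (C.G.sl2Fam_mult θ)
      let ψ := (MulAut.conj u).toMonoidHom.comp φ
      have hψu : ψ (Fam.upper 1) = z := by
        show u * φ (Fam.upper 1) * u⁻¹ = z
        rw [Fam.hom_upper, hzu]; rfl
      have hψl : ψ (Fam.lower c) = z' := by
        show u * φ (Fam.lower c) * u⁻¹ = z'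
        rw [Fam.hom_lower, hform]; rfl
      have hψn : ψ (-1) = u * C.G.hd θ (-1) * u⁻¹ := by
        show u * φ (-1) * u⁻¹ = _
        rw [neg_one_image]
      have hiH : u * C.G.hd θ (-1) * u⁻¹ ∈ H := by
        rw [← hψn]
        set M := Fam.upper (1 : K) * Fam.lower c with hM
        have hMH : ψ M ∈ H := by rw [hM, map_mul, hψu, hψl]; exact mul_mem hzH hz'H
        set N := orderOf (⟨ψ M, hMH⟩ : ↥H)
        have hN : ψ (M ^ N) = 1 := by
          rw [map_pow]
          exact congrArg Subtype.val (pow_orderOf_eq_one (⟨ψ M, hMH⟩ : ↥H))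
        have hker : φ (M ^ N) = 1 := conj_eq_one_iff.1 (show u * φ (M ^ N) * u⁻¹ = 1 from hN)
        exact CfsgLib.Lie.SL2Neg.neg_one_mem_of_pow p hp2 (H := H.comap ψ) hc
          (by rw [Subgroup.mem_comap, hψu]; exact hzH) (by rw [Subgroup.mem_comap, hψl]; exact hz'H)
          (N := N * 2) (Nat.mul_pos (orderOf_pos _) two_pos)
          (by rw [pow_mul, sq]; exact sl2_ker_sq C hθ hker)
      set i₀ := C.G.hd θ (-1 : Kˣ) with hi₀
      have hi₀z : i₀ * z * i₀⁻¹ = z := by
        rw [hzdef, hi₀, C.G.hd_self_conj]; simp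
      have hσi : fmap D σ (u * i₀ * u⁻¹) = u * i₀ * u⁻¹ := by
        refine O.conj_fixed p hfin hchk hpair htor hu hz hσz ⟨1, hp θ⟩ (hne θ) hiH ?_
        have e : u * i₀ * u⁻¹ * z * (u * i₀ * u⁻¹)⁻¹ = z := by
          calc _ = u * (i₀ * (u⁻¹ * z * u) * i₀⁻¹) * u⁻¹ := by group
            _ = u * (i₀ * z * i₀⁻¹) * u⁻¹ := by rw [mul_assoc u⁻¹, ← hucomm.eq, inv_mul_cancel_left]
            _ = z := by rw [hi₀z, ← hzu]
        rw [e, hσz]
      have hσi₀ : fmap D σ i₀ = i₀ := by
        rw [hi₀, ← C.G.hE_eq]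
        simp only [Good.hE, Good.nE, map_mul, C.G.fmap_xu, map_neg, map_inv₀, Units.val_neg, Units.val_one,
          map_one]
      rw [map_mul, map_mul, map_inv, hσi₀] at hσi
      set v := u⁻¹ * fmap D σ u with hv
      have hvU : v ∈ C.G.Uge (K := K) 0 :=
        C.G.posUnipotent_eq (K := K) ▸ mul_mem (inv_mem huU) (C.G.fmap_mem_U σ huU)
      have hvc : i₀ * v * i₀⁻¹ = v := by
        have h1 : fmap D σ u * i₀ = u * i₀ * u⁻¹ * fmap D σ u := by rw [← hσi, inv_mul_cancel_right]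
        calc i₀ * v * i₀⁻¹ = u⁻¹ * (u * i₀ * u⁻¹ * fmap D σ u) * i₀⁻¹ := by simp only [v]; group
          _ = v := by rw [← h1]; simp only [v]; group
      obtain ⟨t, ht⟩ := C.exists_uprod D.nroots 0 (Nat.zero_add _) v hvU
      rw [ht, hi₀, conj_uprod] at hvc
      have hco := C.uprod_inj D.nroots 0 (Nat.zero_add _) _ _ hvc
      have hvr : Commute v (C.G.xu r₀ 1) := by
        rw [ht]
        refine Commute.list_prod_left _ _ fun x hx => ?_
        obtain ⟨r, hr, rfl⟩ := List.mem_map.1 hx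
        simp only [List.mem_filter, decide_eq_true_eq] at hr
        by_cases he : pairB D θ.val r.val % 2 = 0
        · by_cases e : r = r₀
          · rw [e]
            show C.G.xu r₀ (t r₀) * C.G.xu r₀ 1 = C.G.xu r₀ 1 * C.G.xu r₀ (t r₀)
            rw [← C.G.xu_add, ← C.G.xu_add, add_comm]
          · exact (commute_of_nil C e (C.pos_ne_negr hr₀ hr.2.2) (hr₀c r hr.2.2 he e) 1 _).symm
        · have h1 := hco r (Nat.zero_le _) hr.2.2
          simp only [Units.val_neg, Units.val_one,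
            (Int.odd_iff.2 (by omega : pairB D θ.val r.val % 2 = 1)).neg_one_zpow, neg_mul, one_mul] at h1
          have h2 : (2 : K) * t r = 0 := by linear_combination -h1
          have h3 : t r = 0 := (mul_eq_zero.1 h2).resolve_left fun h => by
            have h' : ((2 : ℕ) : K) = 0 := by exact_mod_cast h
            exact hp2 ((Nat.prime_dvd_prime_iff_eq Fact.out Nat.prime_two).1 ((CharP.cast_eq_zero_iff K p 2).1 h'))
          rw [h3, C.G.xu_zero]
          exact Commute.one_left _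
      refine hE (u * C.G.xu r₀ 1 * u⁻¹) (mul_mem (mul_mem (C.G.posUnipotent_le_group huU) (C.G.xu_mem _ _))
        (inv_mem (C.G.posUnipotent_le_group huU))) ?_ ⟨1, ?_⟩ ?_ ?_
      · rw [map_mul, map_mul, map_inv, C.G.fmap_xu, map_one, show fmap D σ u = u * v by rw [hv]; group]
        calc u * v * C.G.xu r₀ 1 * (u * v)⁻¹ = u * (v * C.G.xu r₀ 1 * v⁻¹) * u⁻¹ := by group
          _ = _ := by rw [hvr.eq, mul_inv_cancel_right]
      · rw [conj_pow, hp r₀]; group
      · exact fun e => hne r₀ (conj_eq_one_iff.1 e)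
      · have hn : C.G.negr θ ≠ r₀ := fun e => (C.G.isNegRoot_iff_not_pos _).1
          ((C.G.isNegRoot_iff_not_pos _).2 hs) (e ▸ hr₀)
        have hn' : C.G.negr θ ≠ C.G.negr r₀ := fun e => hr₀θ (by
          have := congrArg C.G.negr e
          rwa [C.G.negr_negr, C.G.negr_negr, eq_comm] at this)
        rw [hform]
        exact (commute_of_nil C hn hn' hr₀n 1 c).symm.map (MulAut.conj u).toMonoidHom
    have hθs : s ≠ θ := fun e => hs (e ▸ hθ)
    have hzc : z * (u * C.G.xu s c * u⁻¹) = u * (z * C.G.xu s c) * u⁻¹ := by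
      conv_lhs => rw [hzu]
      group
    rcases hneg s hs hsL hsn with h0 | ⟨q, k, hterm, hq, hqs, hsq⟩
    · refine hE z hz hσz ⟨1, hp θ⟩ (hne θ) ?_
      show z' * z = z * z'
      rw [hform, hzc, (commute_of_nil C hθs hsn h0 1 c).eq, ← hzdef]
      conv_lhs => rw [hzu]
      group
    · have hcm := C.commAt θ s hθs hsn (1 : K) c
      unfold CommAt cwR at hcm
      rw [hterm] at hcm
      set d := (k : K) * -1 * c
      have hcm' : C.G.xu s c * z = z * C.G.xu s c * C.G.xu q d := by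
        apply Units.ext
        simp only [hzdef, d, Units.val_mul, Good.coe_xu, hcm, List.map_cons, List.map_nil, wordR_cons, wordR_nil,
          mul_one, xN, dif_pos q.isLt, pow_one]
      set w := z⁻¹ * z'⁻¹ with hw0
      have hw : z'⁻¹ * z⁻¹ * z' * z = u * C.G.xu q d * u⁻¹ := by
        rw [hform]
        calc (u * C.G.xu s c * u⁻¹)⁻¹ * z⁻¹ * (u * C.G.xu s c * u⁻¹) * z
            = u * ((C.G.xu s c)⁻¹ * (u⁻¹ * z * u)⁻¹ * (C.G.xu s c * (u⁻¹ * z * u))) * u⁻¹ := by group
          _ = _ := by rw [mul_assoc u⁻¹, ← hucomm.eq, inv_mul_cancel_left, hcm']; group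
      have hwU : u * C.G.xu q d * u⁻¹ ∈ D.posUnipotent K :=
        mul_mem (mul_mem huU (C.G.xu_mem_U hq d)) (inv_mem huU)
      have hwH : u * C.G.xu q d * u⁻¹ ∈ H :=
        hw ▸ mul_mem (mul_mem (mul_mem (inv_mem hz'H) (inv_mem hzH)) hz'H) hzH
      by_cases hd : d = 0
      · refine hE z hz hσz ⟨1, hp θ⟩ (hne θ) ?_
        rw [hd, C.G.xu_zero, mul_one, mul_inv_cancel] at hw
        show z' * z = z * z'
        calc z' * z = z * z' * (z'⁻¹ * z⁻¹ * z' * z) := by group
          _ = _ := by rw [hw, mul_one]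
      refine hE _ (O.le hwH) (hu _ hwU hwH) ⟨1, ?_⟩ ?_ ?_
      · rw [conj_pow, pow_one, xu_pow, CharP.cast_eq_zero, zero_mul, C.G.xu_zero]; group
      · exact fun e => hd ((C.G.xu_eq_one_iff _ _).1 (conj_eq_one_iff.1 e))
      · rw [hform]
        refine (commute_of_nil C (fun e => hs (by rw [← e]; exact hq)) ?_ hsq c d).map (MulAut.conj u).toMonoidHom
        exact hqs

end CfsgLib.Lie.Chev.Sub
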