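import Cfsg.Agent.Lib.Lie.Chev.Sub.Unip
import Cfsg.Prelude.Def_ChevB2

/-!
# The terminal root groups in an overgroup of a subfield subgroup
-/

set_option autoImplicit false
set_option linter.unusedSectionVars false

namespace CfsgLib.Lie.Chev.Sub

open Cfsg.Lie
open scoped MatrixGroups

/-- a node fixing one terminal root and moving the other to a root from which it comes back by a commutator -/
def chkTwo (D : ChevalleyDatum) (θs θ : ℕ) : Bool :=
  (List.range D.rank).any fun i =>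
    let r := D.reflectRoot i θ
    D.reflectRoot i θs == θs && r != D.simple i && D.posRoots.contains r &&
      (match D.commTerms r (D.simple i) with
        | [(x, c, 1, 1)] => x == θ && c.natAbs == 1
        | _ => false)

variable {D : ChevalleyDatum} {K : Type*} [Field K] {C : Full D} {σ : K →+* K}
  (p : ℕ) [Fact p.Prime] [CharP K p]

/-- the elements of the group generated by two central root groups -/
theorem Zt_two (hchk : chkTerms D (pClass p) = true) {θs θ : Fin D.nroots}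
    (hterms : termsB D (pClass p) = [θs.val, θ.val]) {z : GL D.Idx K} (hz : z ∈ Zt C K (pClass p)) :
    ∃ a b : K, z = C.G.xu θs a * C.G.xu θ b := by
  have hmem : θs.val ∈ termsB D (pClass p) := by simp [hterms]
  have hmem' : θ.val ∈ termsB D (pClass p) := by simp [hterms]
  have hθ : D.IsPosRoot θ.val := (mem_posRoots.1 (List.mem_filter.1 hmem').1).2
  have hθs : D.IsPosRoot θs.val := (mem_posRoots.1 (List.mem_filter.1 hmem).1).2
  have hc : ∀ a b : K, Commute (C.G.xu θs a) (C.G.xu θ b) := fun a b =>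
    commute_term C p hchk hθs hmem a (C.G.xu_mem_U hθ b)
  induction hz using Subgroup.closure_induction with
  | one => exact ⟨0, 0, by simp [C.G.xu_zero]⟩
  | mul a b _ _ ha hb =>
    obtain ⟨x, y, rfl⟩ := ha; obtain ⟨x', y', rfl⟩ := hb
    exact ⟨x + x', y + y', by rw [C.G.xu_add, C.G.xu_add, mul_assoc, mul_assoc,
      ← mul_assoc (C.G.xu θ y), ← (hc x' y).eq, mul_assoc]⟩
  | inv a _ ha =>
    obtain ⟨x, y, rfl⟩ := ha
    exact ⟨-x, -y, by rw [mul_inv_rev, C.G.xu_inv, C.G.xu_inv, (hc (-x) (-y)).eq]⟩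
  | mem x hx =>
    obtain ⟨r, t, hr, rfl⟩ := hx
    rw [hterms, List.mem_cons, List.mem_singleton] at hr
    rcases hr with e | e
    · exact ⟨t, 0, by rw [Fin.ext e, C.G.xu_zero, mul_one]⟩
    · exact ⟨0, t, by rw [Fin.ext e, C.G.xu_zero, one_mul]⟩

variable {H : Subgroup (GL D.Idx K)}

/-- two terminal roots -/
theorem Over.term_two (O : Over C σ H) (hchk : chkTerms D (pClass p) = true) {θs θ : Fin D.nroots}
    (hterms : termsB D (pClass p) = [θs.val, θ.val]) (h2 : chkTwo D θs.val θ.val = true)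
    (hrat : ∀ (r : Fin D.nroots) (t : K), C.G.xu r t ∈ H → σ t = t) :
    ∀ z ∈ Zt C K (pClass p), z ∈ H → fmap D σ z = z := by
  intro z hz hzH
  obtain ⟨a, b, rfl⟩ := Zt_two p hchk hterms hz
  simp only [chkTwo, List.any_eq_true, List.mem_range, Bool.and_eq_true, beq_iff_eq, bne_iff_ne, ne_eq,
    List.contains_iff_mem] at h2
  obtain ⟨i', hi', ⟨⟨h1, hne⟩, hpos⟩, hterm⟩ := h2
  let i : Fin D.rank := ⟨i', hi'⟩
  set θ' := C.G.w i θ with hθ'
  have e1 : C.G.w i θs = θs := Fin.ext ((C.G.w_reflect i θs).trans h1)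
  have e2 : D.reflectRoot i' θ.val = θ'.val := (C.G.w_reflect i θ).symm
  have es : D.simple i' = (C.G.simp' i).val := (C.G.simp_val i).symm
  rw [e2] at hne hpos hterm
  rw [es] at hne hterm
  obtain ⟨x, c, hcomm⟩ : ∃ (x : ℕ) (c : ℤ), D.commTerms θ'.val (C.G.simp' i).val = [(x, c, 1, 1)] := by
    revert hterm
    split
    · intro _; exact ⟨_, _, by assumption⟩
    · intro h; exact absurd h (by simp)
  rw [hcomm] at hterm
  simp only [Bool.and_eq_true, beq_iff_eq] at hterm
  obtain ⟨rfl, hc⟩ := hterm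
  have hθ'p : D.IsPosRoot θ'.val := (mem_posRoots.1 hpos).2
  have hmem : θs.val ∈ termsB D (pClass p) := by simp [hterms]
  have hθs : D.IsPosRoot θs.val := (mem_posRoots.1 (List.mem_filter.1 hmem).1).2
  have hsimp : D.IsPosRoot (C.G.simp' i).val := C.G.simp_pos i
  set α := C.G.simp' i with hα
  set a' : K := (C.G.eta i θs : K) * a
  set b' : K := (C.G.eta i θ : K) * b
  have hconj : C.G.nU i * (C.G.xu θs a * C.G.xu θ b) * (C.G.nU i)⁻¹ = C.G.xu θs a' * C.G.xu θ' b' := by
    rw [← mul_assoc (C.G.nU i : GL D.Idx K), C.G.nU_xu, e1, mul_assoc (C.G.xu θs _), C.G.nU_xu]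
    simp only [mul_assoc, mul_inv_cancel, mul_one]
    rfl
  have hH : C.G.xu θs a' * C.G.xu θ' b' ∈ H :=
    hconj ▸ mul_mem (mul_mem (O.nU_mem i) hzH) (inv_mem (O.nU_mem i))
  have hcm := C.commAt θ' α (fun e => hne (congrArg Fin.val e).symm) (C.pos_ne_negr hθ'p hsimp) b' (1 : K)
  unfold CommAt cwR at hcm
  rw [hcomm] at hcm
  have hcm' : C.G.xu α 1 * C.G.xu θ' b' = C.G.xu θ' b' * C.G.xu α 1 * C.G.xu θ ((c : K) * -b') := by
    apply Units.ext
    simp only [Units.val_mul, Good.coe_xu, hcm, List.map_cons, List.map_nil, wordR_cons, wordR_nil,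
      pow_one, mul_one, xN, dif_pos θ.isLt]
  have hb' : C.G.xu θ ((c : K) * -b') ∈ H := by
    have hA : C.G.xu α (1 : K) ∈ H := O.xu_mem (map_one σ)
    have hm := mul_mem (mul_mem (mul_mem (inv_mem hA) (inv_mem hH)) hA) hH
    have e : (C.G.xu α 1)⁻¹ * (C.G.xu θs a' * C.G.xu θ' b')⁻¹ * C.G.xu α 1 * (C.G.xu θs a' * C.G.xu θ' b') =
        C.G.xu θ ((c : K) * -b') := by
      have hcs := commute_term C p hchk hθs hmem a' (C.G.xu_mem_U hsimp 1)
      calc _ = (C.G.xu α 1)⁻¹ * (C.G.xu θ' b')⁻¹ * ((C.G.xu θs a')⁻¹ * (C.G.xu α 1 * C.G.xu θs a')) *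
            C.G.xu θ' b' := by group
        _ = (C.G.xu α 1)⁻¹ * (C.G.xu θ' b')⁻¹ * (C.G.xu α 1 * C.G.xu θ' b') := by
          rw [← hcs.eq]; group
        _ = _ := by rw [hcm']; group
    rwa [e] at hm
  have hb : σ b = b := by
    have := hrat _ _ hb'
    rw [map_mul, map_neg, map_intCast] at this
    have hb' : σ b' = b' := neg_injective
      (mul_left_cancel₀ (fun h0 => by rcases Int.natAbs_eq c with e | e <;> rw [e, hc] at h0 <;> simp at h0) this)
    simp only [b', map_mul, map_intCast] at hb'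
    refine mul_left_cancel₀ (fun h0 => ?_) hb'
    rcases C.G.eta_unit i θ with e | e <;> simp [e] at h0
  have hxb : C.G.xu θ b ∈ H := O.xu_mem hb
  rw [map_mul, C.G.fmap_xu, C.G.fmap_xu, hb,
    hrat θs a (by simpa using mul_mem hzH (inv_mem hxb))]

end CfsgLib.Lie.Chev.Sub

namespace CfsgLib.Lie.Chev.Sub

open Cfsg.Lie
open scoped MatrixGroups

variable {K : Type*} [Field K] {C : Full chevB2} {σ : K →+* K} [CharP K 2]
  {H : Subgroup (GL chevB2.Idx K)}

/-- `B₂` in characteristic two -/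
theorem Over.term_B2 (O : Over C σ H)
    (hrat : ∀ (r : Fin chevB2.nroots) (t : K), C.G.xu r t ∈ H → σ t = t) :
    ∀ z ∈ Zt C K (pClass 2), z ∈ H → fmap chevB2 σ z = z := by
  haveI : Fact (Nat.Prime 2) := ⟨Nat.prime_two⟩
  have hq : pClass 2 = 2 := rfl
  have hchk : chkTerms chevB2 (pClass 2) = true := by rw [hq]; decide +kernel
  let r4 : Fin chevB2.nroots := ⟨4, by decide +kernel⟩
  let r5 : Fin chevB2.nroots := ⟨5, by decide +kernel⟩
  let r6 : Fin chevB2.nroots := ⟨6, by decide +kernel⟩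
  let r7 : Fin chevB2.nroots := ⟨7, by decide +kernel⟩
  have hterms : termsB chevB2 (pClass 2) = [r6.val, r7.val] := by rw [hq]; decide +kernel
  have m6 : r6.val ∈ termsB chevB2 (pClass 2) := by simp [hterms]
  have m7 : r7.val ∈ termsB chevB2 (pClass 2) := by simp [hterms]
  have p4 : chevB2.IsPosRoot r4.val := by decide +kernel
  have p5 : chevB2.IsPosRoot r5.val := by decide +kernel
  have p6 : chevB2.IsPosRoot r6.val := by decide +kernel
  have p7 : chevB2.IsPosRoot r7.val := by decide +kernel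
  have h2 : (2 : K) = 0 := by exact_mod_cast CharP.cast_eq_zero K 2
  have hn : ∀ x : K, -x = x := CharTwo.neg_eq
  let j0 : Fin chevB2.rank := ⟨0, by decide +kernel⟩
  let j1 : Fin chevB2.rank := ⟨1, by decide +kernel⟩
  have hw : ∀ (i : Fin chevB2.rank) (r r' : Fin chevB2.nroots), chevB2.reflectRoot i.val r.val = r'.val →
      C.G.w i r = r' := fun i r r' h => Fin.ext ((C.G.w_reflect i r).trans h)
  have heta : ∀ (i : Fin chevB2.rank) (r : Fin chevB2.nroots), (C.G.eta i r : K) = 1 := fun i r => by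
    rcases C.G.eta_unit i r with e | e <;> simp [e, hn]
  have hconj : ∀ (i : Fin chevB2.rank) (r s r' s' : Fin chevB2.nroots),
      chevB2.reflectRoot i.val r.val = r'.val → chevB2.reflectRoot i.val s.val = s'.val → ∀ a b : K,
      C.G.xu r a * C.G.xu s b ∈ H → C.G.xu r' a * C.G.xu s' b ∈ H := by
    intro i r s r' s' h1 h2 a b h
    have e : C.G.nU i * (C.G.xu r a * C.G.xu s b) * (C.G.nU i)⁻¹ = C.G.xu r' a * C.G.xu s' b := by
      rw [← mul_assoc (C.G.nU i : GL chevB2.Idx K), C.G.nU_xu, hw _ _ _ h1, mul_assoc (C.G.xu r' _), C.G.nU_xu,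
        hw _ _ _ h2, heta, heta, one_mul, one_mul]
      group
    exact e ▸ mul_mem (mul_mem (O.nU_mem i) h) (inv_mem (O.nU_mem i))
  have hcm : ∀ a b : K, C.G.xu r4 b * C.G.xu r5 a =
      C.G.xu r5 a * C.G.xu r4 b * (C.G.xu r6 (a * b) * C.G.xu r7 (a ^ 2 * b)) := by
    intro a b
    have hcm := C.commAt r5 r4 (by simp [r4, r5]) (C.pos_ne_negr p5 p4) a b
    have ec : chevB2.commTerms 5 4 = [(6, -1, 1, 1), (7, -1, 2, 1)] := by decide +kernel
    unfold CommAt cwR at hcm
    rw [show chevB2.commTerms r5.val r4.val = _ from ec] at hcm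
    apply Units.ext
    simp only [Units.val_mul, Good.coe_xu, hcm, List.map_cons, List.map_nil, wordR_cons, wordR_nil,
      pow_one, mul_one, xN, r6, r7, hn, Int.cast_neg, Int.cast_one, one_mul, mul_assoc]
    rw [dif_pos (show 6 < chevB2.nroots by decide +kernel), dif_pos (show 7 < chevB2.nroots by decide +kernel)]
  let S : K → K → Prop := fun a b => C.G.xu r6 a * C.G.xu r7 b ∈ H
  have hR : ∀ a b a' b', S a b → S a' b' → S (a * b') (a ^ 2 * b') := by
    intro a b a' b' h h'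
    have e1 : C.G.xu r5 a * C.G.xu r7 b ∈ H :=
      hconj j1 r6 r7 r5 r7 (by decide +kernel) (by decide +kernel) a b h
    have e2 : C.G.xu r6 a' * C.G.xu r4 b' ∈ H :=
      hconj j0 r6 r7 r6 r4 (by decide +kernel) (by decide +kernel) a' b' h'
    have hm := mul_mem (mul_mem (mul_mem (inv_mem e2) (inv_mem e1)) e2) e1
    show C.G.xu r6 (a * b') * C.G.xu r7 (a ^ 2 * b') ∈ H
    have c1 := commute_term C 2 hchk p7 m7 b (mul_mem (C.G.xu_mem_U p6 a') (C.G.xu_mem_U p4 b'))
    have c2 := commute_term C 2 hchk p6 m6 a' (C.G.xu_mem_U p5 a)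
    have e : (C.G.xu r6 a' * C.G.xu r4 b')⁻¹ * (C.G.xu r5 a * C.G.xu r7 b)⁻¹ * (C.G.xu r6 a' * C.G.xu r4 b') *
        (C.G.xu r5 a * C.G.xu r7 b) = C.G.xu r6 (a * b') * C.G.xu r7 (a ^ 2 * b') := by
      have c3 := commute_term C 2 hchk p7 m7 b (mul_mem (C.G.xu_mem_U p6 (a * b')) (C.G.xu_mem_U p7 (a ^ 2 * b')))
      have hBA := hcm a b'
      set A := C.G.xu r5 a; set Z := C.G.xu r7 b; set Y := C.G.xu r6 a'; set B := C.G.xu r4 b'
      set W := C.G.xu r6 (a * b') * C.G.xu r7 (a ^ 2 * b')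
      calc (Y * B)⁻¹ * (A * Z)⁻¹ * (Y * B) * (A * Z)
          = (Y * B)⁻¹ * Z⁻¹ * A⁻¹ * Y * (B * A) * Z := by group
        _ = (Y * B)⁻¹ * Z⁻¹ * A⁻¹ * Y * (A * B * W) * Z := by rw [hBA]
        _ = (Y * B)⁻¹ * Z⁻¹ * A⁻¹ * (Y * A) * (B * W) * Z := by simp only [mul_assoc]
        _ = (Y * B)⁻¹ * (Z⁻¹ * (Y * B)) * W * Z := by rw [c2.eq]; group
        _ = (Y * B)⁻¹ * ((Y * B) * Z⁻¹) * W * Z := by rw [c1.inv_left.eq]
        _ = Z⁻¹ * (W * Z) := by group
        _ = W := by rw [← c3.eq, inv_mul_cancel_left]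
    rwa [e] at hm
  have hsub : ∀ a b a' b', S a b → S a' b' → S (a + a') (b + b') := by
    intro a b a' b' h h'
    have := mul_mem h h'
    show C.G.xu r6 (a + a') * C.G.xu r7 (b + b') ∈ H
    rwa [C.G.xu_add, C.G.xu_add, mul_assoc, ← mul_assoc (C.G.xu r6 a'),
      (commute_term C 2 hchk p6 m6 a' (C.G.xu_mem_U p7 b)).eq, mul_assoc, ← mul_assoc] 
  have h10 : S 1 0 := by
    show C.G.xu r6 (1 : K) * C.G.xu r7 0 ∈ H
    rw [C.G.xu_zero, mul_one]; exact O.xu_mem (map_one σ)
  have h01 : S 0 1 := by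
    show C.G.xu r6 (0 : K) * C.G.xu r7 1 ∈ H
    rw [C.G.xu_zero, one_mul]; exact O.xu_mem (map_one σ)
  have hfirst : ∀ a b, S a b → σ (b + a ^ 2) = b + a ^ 2 := by
    intro a b h
    have h' := hR a b 0 1 h h01
    rw [mul_one, mul_one] at h'
    have h'' := hsub _ _ _ _ h h'
    rw [CharTwo.add_self_eq_zero] at h''
    refine hrat r7 _ ?_
    simpa [S, C.G.xu_zero] using h''
  intro z hz hzH
  obtain ⟨a, b, rfl⟩ := Zt_two 2 hchk hterms hz
  have hb : σ b = b := by
    have hbb : S b b := by simpa using hR 1 0 a b h10 hzH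
    have hc := hfirst b b hbb
    have h23 := hfirst _ _ (hR b b b b hbb hbb)
    rw [show b ^ 2 * b + (b * b) ^ 2 = b ^ 2 * (b + b ^ 2) by ring] at h23
    by_cases h0 : b + b ^ 2 = 0
    · have : b * (1 + b) = 0 := by linear_combination h0
      rcases mul_eq_zero.1 this with e | e
      · rw [e, map_zero]
      · rw [show b = 1 from (CharTwo.add_eq_zero.1 e).symm, map_one]
    rw [map_mul, hc, mul_eq_mul_right_iff, or_iff_left h0, map_pow] at h23
    exact CharTwo.sq_injective h23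
  have ha : σ a = a := by
    have h := hfirst a b hzH
    rw [map_add, hb, add_right_inj, map_pow] at h
    exact CharTwo.sq_injective h
  rw [map_mul, C.G.fmap_xu, C.G.fmap_xu, ha, hb]

end CfsgLib.Lie.Chev.Sub
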