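import Cfsg.Agent.Lib.Lie.Chev.Sub.Params
import Cfsg.Agent.Lib.Lie.Chev.Sub.Terms

/-!
# The parameters of a finite overgroup in type `B₂`
-/

set_option autoImplicit false
set_option linter.unusedSectionVars false

namespace CfsgLib.Lie.Chev.Sub

open Cfsg.Lie
open scoped MatrixGroups

/-- the long roots of `B₂` -/
def longB2 (r : ℕ) : Bool := [0, 3, 4, 7].contains r

variable {K : Type*} [Field K] {C : Full chevB2} {σ : K →+* K} {M : Subgroup (GL chevB2.Idx K)}

theorem Over.field_B2 (O : Over C σ M) [Finite ↥M] (p : ℕ) [hp : Fact p.Prime] [CharP K p]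
    (hcl : ∀ (i : Fin chevB2.rank) (r : Fin chevB2.nroots), longB2 r.val = true → longB2 (C.G.w i r).val = true) :
    ∃ E : Subfield K, ∀ (r : Fin chevB2.nroots) (t : K), C.G.xu r t ∈ M ↔ t ∈ E := by
  classical
  let r4 : Fin chevB2.nroots := ⟨4, by decide +kernel⟩
  let r5 : Fin chevB2.nroots := ⟨5, by decide +kernel⟩
  let r6 : Fin chevB2.nroots := ⟨6, by decide +kernel⟩
  let r7 : Fin chevB2.nroots := ⟨7, by decide +kernel⟩
  have p4 : chevB2.IsPosRoot r4.val := by decide +kernel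
  have p5 : chevB2.IsPosRoot r5.val := by decide +kernel
  have p6 : chevB2.IsPosRoot r6.val := by decide +kernel
  have p7 : chevB2.IsPosRoot r7.val := by decide +kernel
  have hclass : chkClass chevB2 longB2 = true := by decide +kernel
  have heq : ∀ {r s : Fin chevB2.nroots}, longB2 r.val = longB2 s.val → param C M r = param C M s :=
    fun h => O.param_class hcl hclass h
  have e45 : param C M r4 = param C M r7 := heq (by decide +kernel)
  have e56 : param C M r5 = param C M r6 := heq (by decide +kernel)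
  set AL := param C M r7
  set AS := param C M r6
  have hcm : ∀ a b : K, C.G.xu r4 b * C.G.xu r5 a =
      C.G.xu r5 a * C.G.xu r4 b * (C.G.xu r6 (a * b) * C.G.xu r7 (-(a ^ 2 * b))) := by
    intro a b
    have hcm := C.commAt r5 r4 (by simp [r4, r5]) (C.pos_ne_negr p5 p4) a b
    have ec : chevB2.commTerms 5 4 = [(6, -1, 1, 1), (7, -1, 2, 1)] := by decide +kernel
    unfold CommAt cwR at hcm
    rw [show chevB2.commTerms r5.val r4.val = _ from ec] at hcm
    apply Units.ext
    simp only [Units.val_mul, Good.coe_xu, hcm, List.map_cons, List.map_nil, wordR_cons, wordR_nil,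
      pow_one, mul_one, xN, r6, r7, neg_sq, Int.cast_neg, Int.cast_one, neg_mul_neg, neg_mul, one_mul, neg_neg,
      mul_assoc]
    rw [dif_pos (show 6 < chevB2.nroots by decide +kernel), dif_pos (show 7 < chevB2.nroots by decide +kernel)]
  have hpair : ∀ a ∈ AS, ∀ b ∈ AL, C.G.xu r6 (a * b) * C.G.xu r7 (-(a ^ 2 * b)) ∈ M := by
    intro a ha b hb
    rw [← e56] at ha
    rw [← e45] at hb
    rw [show C.G.xu r6 (a * b) * C.G.xu r7 (-(a ^ 2 * b)) =
      (C.G.xu r5 a * C.G.xu r4 b)⁻¹ * (C.G.xu r4 b * C.G.xu r5 a) by rw [hcm, inv_mul_cancel_left]]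
    exact mul_mem (inv_mem (mul_mem ha hb)) (mul_mem hb ha)
  have hLS : AL ≤ AS := by
    intro b hb
    have h := hpair 1 (O.param_one r6) b hb
    rw [one_pow, one_mul] at h
    have hb' : -b ∈ AL := neg_mem hb
    have := mul_mem h (inv_mem hb')
    rwa [mul_inv_cancel_right] at this
  have hsq : ∀ a ∈ AS, a ^ 2 ∈ AL := by
    intro a ha
    have h := hpair a ha 1 (O.param_one r7)
    rw [mul_one, mul_one] at h
    have := neg_mem (show -(a ^ 2) ∈ AL by
      have := mul_mem (inv_mem (show C.G.xu r6 a ∈ M from ha)) h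
      rwa [inv_mul_cancel_left] at this)
    rwa [neg_neg] at this
  suffices h : AS ≤ AL ∧ ∀ a ∈ AL, ∀ b ∈ AL, a * b ∈ AL by
    obtain ⟨E, hE⟩ := exists_subfield (param_finite r7) (O.param_one r7) h.2
    refine ⟨E, fun r t => ?_⟩
    rw [hE, ← mem_param]
    cases hr : longB2 r.val with
    | false =>
      rw [heq (s := r6) (hr.trans (by decide +kernel))]
      exact ⟨fun ht => h.1 ht, fun ht => hLS ht⟩
    | true => rw [heq (s := r7) (hr.trans (by decide +kernel))]
  by_cases hp2 : p = 2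
  · subst hp2
    have hn : ∀ x : K, -x = x := CharTwo.neg_eq
    let S : K → K → Prop := fun a b => C.G.xu r6 a * C.G.xu r7 b ∈ M
    have hchk : chkTerms chevB2 (pClass 2) = true := by decide +kernel
    have m6 : r6.val ∈ termsB chevB2 (pClass 2) := by decide +kernel
    have m7 : r7.val ∈ termsB chevB2 (pClass 2) := by decide +kernel
    let j0 : Fin chevB2.rank := ⟨0, by decide +kernel⟩
    let j1 : Fin chevB2.rank := ⟨1, by decide +kernel⟩
    have hw : ∀ (i : Fin chevB2.rank) (r r' : Fin chevB2.nroots), chevB2.reflectRoot i.val r.val = r'.val →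
        C.G.w i r = r' := fun i r r' h => Fin.ext ((C.G.w_reflect i r).trans h)
    have heta : ∀ (i : Fin chevB2.rank) (r : Fin chevB2.nroots), (C.G.eta i r : K) = 1 := fun i r => by
      rcases C.G.eta_unit i r with e | e <;> simp [e, hn]
    have hconj : ∀ (i : Fin chevB2.rank) (r s r' s' : Fin chevB2.nroots),
        chevB2.reflectRoot i.val r.val = r'.val → chevB2.reflectRoot i.val s.val = s'.val → ∀ a b : K,
        C.G.xu r a * C.G.xu s b ∈ M → C.G.xu r' a * C.G.xu s' b ∈ M := by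
      intro i r s r' s' h1 h2 a b h
      have e : C.G.nU i * (C.G.xu r a * C.G.xu s b) * (C.G.nU i)⁻¹ = C.G.xu r' a * C.G.xu s' b := by
        rw [← mul_assoc (C.G.nU i : GL chevB2.Idx K), C.G.nU_xu, hw _ _ _ h1, mul_assoc (C.G.xu r' _), C.G.nU_xu,
          hw _ _ _ h2, heta, heta, one_mul, one_mul]
        group
      exact e ▸ mul_mem (mul_mem (O.nU_mem i) h) (inv_mem (O.nU_mem i))
    have hR : ∀ a b a' b', S a b → S a' b' → S (a * b') (a ^ 2 * b') := by
      intro a b a' b' h h'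
      have e1 : C.G.xu r5 a * C.G.xu r7 b ∈ M :=
        hconj j1 r6 r7 r5 r7 (by decide +kernel) (by decide +kernel) a b h
      have e2 : C.G.xu r6 a' * C.G.xu r4 b' ∈ M :=
        hconj j0 r6 r7 r6 r4 (by decide +kernel) (by decide +kernel) a' b' h'
      have hm := mul_mem (mul_mem (mul_mem (inv_mem e2) (inv_mem e1)) e2) e1
      show C.G.xu r6 (a * b') * C.G.xu r7 (a ^ 2 * b') ∈ M
      have c1 := commute_term C 2 hchk p7 m7 b (mul_mem (C.G.xu_mem_U p6 a') (C.G.xu_mem_U p4 b'))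
      have c2 := commute_term C 2 hchk p6 m6 a' (C.G.xu_mem_U p5 a)
      have e : (C.G.xu r6 a' * C.G.xu r4 b')⁻¹ * (C.G.xu r5 a * C.G.xu r7 b)⁻¹ * (C.G.xu r6 a' * C.G.xu r4 b') *
          (C.G.xu r5 a * C.G.xu r7 b) = C.G.xu r6 (a * b') * C.G.xu r7 (a ^ 2 * b') := by
        have c3 := commute_term C 2 hchk p7 m7 b (mul_mem (C.G.xu_mem_U p6 (a * b')) (C.G.xu_mem_U p7 (a ^ 2 * b')))
        have hBA := hcm a b'
        rw [hn] at hBA
        set A := C.G.xu r5 a; set Z := C.G.xu r7 b; set Y := C.G.xu r6 a'; set B := C.G.xu r4 b'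
        set W := C.G.xu r6 (a * b') * C.G.xu r7 (a ^ 2 * b')
        calc (Y * B)⁻¹ * (A * Z)⁻¹ * (Y * B) * (A * Z)
            = (Y * B)⁻¹ * Z⁻¹ * A⁻¹ * Y * (B * A) * Z := by group
          _ = (Y * B)⁻¹ * Z⁻¹ * A⁻¹ * Y * (A * B * W) * Z := by rw [hBA]
          _ = (Y * B)⁻¹ * Z⁻¹ * A⁻¹ * (Y * A) * (B * W) * Z := by simp only [mul_assoc]
          _ = (Y * B)⁻¹ * (Z⁻¹ * (Y * B)) * W * Z := by rw [c2.eq]; group
          _ = (Y * B)⁻¹ * ((Y * B) * Z⁻¹) * W * Z := by rw [c1.inv_left.eq]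
          _ = Z⁻¹ * (W * Z) := by group
          _ = W := by rw [← c3.eq, inv_mul_cancel_left]
      rwa [e] at hm
    have hsub : ∀ a b a' b', S a b → S a' b' → S (a + a') (b + b') := by
      intro a b a' b' h h'
      have := mul_mem h h'
      show C.G.xu r6 (a + a') * C.G.xu r7 (b + b') ∈ M
      rwa [C.G.xu_add, C.G.xu_add, mul_assoc, ← mul_assoc (C.G.xu r6 a'),
        (commute_term C 2 hchk p6 m6 a' (C.G.xu_mem_U p7 b)).eq, mul_assoc, ← mul_assoc]
    have hS0 : ∀ {a : K}, a ∈ AS → S a 0 := fun {a} ha => by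
      show C.G.xu r6 a * C.G.xu r7 0 ∈ M
      rw [C.G.xu_zero, mul_one]; exact ha
    have h0S : ∀ {b : K}, b ∈ AL → S 0 b := fun {b} hb => by
      show C.G.xu r6 0 * C.G.xu r7 b ∈ M
      rw [C.G.xu_zero, one_mul]; exact hb
    have hzero : ∀ y, S 0 y → y ∈ AL := fun y h => by
      have h' : C.G.xu r6 0 * C.G.xu r7 y ∈ M := h
      rwa [C.G.xu_zero, one_mul] at h'
    have hfirst : ∀ x y, S x y → S x (x ^ 2) := fun x y h => by
      simpa using hR x y 0 1 h (h0S (O.param_one r7))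
    have hsame : ∀ x y, S x y → S y y := fun x y h => by
      simpa using hR 1 0 x y (hS0 (O.param_one r6)) h
    -- the projections
    set P1 : Set K := {x | ∃ y, S x y}
    set P2 : Set K := {y | ∃ x, S x y}
    have hP1fin : P1.Finite := by
      have huniq : ∀ {a b a' b' : K}, C.G.xu r6 a * C.G.xu r7 b = C.G.xu r6 a' * C.G.xu r7 b' → a = a' :=
        fun {a b a' b'} h => (C.G.lowest_unique p6 (C.G.xu_mem_Uge (by simp [r6, r7]) p7 b)
          (C.G.xu_mem_Uge (by simp [r6, r7]) p7 b') h).1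
      choose f hf using fun x : ↥P1 => x.2
      refine Set.finite_coe_iff.1 (Finite.of_injective (fun x : ↥P1 =>
        (⟨C.G.xu r6 x.1 * C.G.xu r7 (f x), hf x⟩ : ↥M)) fun x y h => Subtype.ext (huniq (congrArg Subtype.val h)))
    have h21 : P2 ⊆ P1 := fun y ⟨x, h⟩ => ⟨y, hsame x y h⟩
    have h12 : P1 ⊆ P2 := by
      have hmap : (fun x : K => x ^ 2) '' P1 ⊆ P2 := by
        rintro _ ⟨x, ⟨y, h⟩, rfl⟩
        exact ⟨x, hfirst x y h⟩
      have hcard : ((fun x : K => x ^ 2) '' P1).ncard = P1.ncard :=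
        Set.ncard_image_of_injective _ CharTwo.sq_injective
      have h3 : P1.ncard ≤ P2.ncard := hcard ▸ Set.ncard_le_ncard hmap (hP1fin.subset h21)
      exact (Set.eq_of_subset_of_ncard_le h21 h3 hP1fin).symm.subset
    have hmul : ∀ a ∈ P1, ∀ b ∈ P1, S (a * b) (a ^ 2 * b) := by
      rintro a ⟨y, ha⟩ b hb
      obtain ⟨x, hx⟩ := h12 hb
      exact hR a y x b ha hx
    have hone : (1 : K) ∈ P1 := ⟨0, hS0 (O.param_one r6)⟩
    have hdiag : ∀ b ∈ P1, S b b := fun b hb => by simpa using hmul 1 hone b hb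
    have hgen : ∀ a ∈ P1, ∀ b ∈ P1, (a + a ^ 2) * b ∈ AL := by
      intro a ha b hb
      have h1 := hmul a ha b hb
      have h2 := hdiag _ (show a * b ∈ P1 from ⟨_, h1⟩)
      have h3 := hsub _ _ _ _ h2 h1
      rw [CharTwo.add_self_eq_zero] at h3
      have h4 := hzero _ h3
      rwa [show a * b + a ^ 2 * b = (a + a ^ 2) * b by ring] at h4
    have hALP : ∀ b ∈ AL, b ∈ P1 := fun b hb => h21 ⟨0, h0S hb⟩
    obtain ⟨A, hA⟩ : ∃ A : AddSubgroup K, (A : Set K) = P1 :=
      ⟨{ carrier := P1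
         zero_mem' := ⟨0, hS0 (zero_mem AS)⟩
         add_mem' := fun {a b} ⟨u, ha⟩ ⟨v, hb⟩ => ⟨u + v, hsub a u b v ha hb⟩
         neg_mem' := fun {a} ha => by rw [hn]; exact ha }, rfl⟩
    have hmemA : ∀ x, x ∈ A ↔ x ∈ P1 := fun x => by rw [← hA]; rfl
    obtain ⟨F, hF⟩ := exists_subfield (A := A) (hA ▸ hP1fin) ((hmemA 1).2 hone)
      (fun a ha b hb => (hmemA _).2 ⟨_, hmul a ((hmemA a).1 ha) b ((hmemA b).1 hb)⟩)
    have hPL : ∀ b ∈ P1, b ∈ AL := by
      intro b hb
      by_cases hex : ∃ a ∈ P1, a + a ^ 2 ≠ 0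
      · obtain ⟨a, ha, h0⟩ := hex
        have hmem : (a + a ^ 2)⁻¹ * b ∈ P1 := (hmemA _).1 ((hF _).1 (mul_mem (inv_mem
          (add_mem ((hF a).2 ((hmemA a).2 ha)) (pow_mem ((hF a).2 ((hmemA a).2 ha)) 2))) ((hF b).2 ((hmemA b).2 hb))))
        have := hgen a ha _ hmem
        rwa [mul_inv_cancel_left₀ h0] at this
      · push Not at hex
        have h := hex b hb
        have : b * (1 + b) = 0 := by linear_combination h
        rcases mul_eq_zero.1 this with e | e
        · rw [e]; exact zero_mem AL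
        · rw [show b = 1 from (CharTwo.add_eq_zero.1 e).symm]; exact O.param_one r7
    refine ⟨fun a ha => hPL a ⟨0, hS0 ha⟩, fun a ha b hb => hPL _ ?_⟩
    exact ⟨_, hmul a (hALP a ha) b (hALP b hb)⟩
  · have hmulchk : chkMul chevB2 longB2 false false true 2 (pClass p) = true := by
      rcases pClass_cases hp.out with e | e | e
      · exfalso
        unfold pClass at e
        split_ifs at e <;> omega
      · rw [e]; decide +kernel
      · rw [e]; decide +kernel
    have h2 : ∀ c : ℤ, c.natAbs = 2 → (c : K) ≠ 0 := fun c hc h0 => by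
      have hd : p ∣ c.natAbs := Int.natCast_dvd.1 ((CharP.intCast_eq_zero_iff K p c).1 h0)
      rw [hc] at hd
      exact hp2 ((Nat.prime_dvd_prime_iff_eq hp.out Nat.prime_two).1 hd)
    have hm : ∀ a ∈ AS, ∀ b ∈ AS, a * b ∈ AL := fun a ha b hb =>
      O.mul_mem_param p hcl hclass hmulchk (rq := r7) (by decide +kernel : longB2 r6.val = false)
        (by decide +kernel : longB2 r6.val = false) (by decide +kernel) h2 ha hb
    exact ⟨fun a ha => by simpa using hm a ha 1 (O.param_one r6), fun a ha b hb => hm a (hLS ha) b (hLS hb)⟩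

end CfsgLib.Lie.Chev.Sub
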