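import Cfsg.Agent.Lib.Lie.Chev.Sub.Main
import Cfsg.Agent.Lib.Lie.Chev.Sub.ParamsB2

/-!
# Finite overgroups of a subfield subgroup over an arbitrary field
-/

set_option autoImplicit false
set_option linter.unusedSectionVars false

namespace CfsgLib.Lie.Chev.Sub

open Cfsg.Lie
open scoped MatrixGroups

variable {D : ChevalleyDatum} {K : Type*} [Field K] {C : Full D} {σ : K →+* K} {M : Subgroup (GL D.Idx K)}
  (p : ℕ) [hp : Fact p.Prime] [CharP K p]

include hp in
theorem cast_ne_of_natAbs {c : ℤ} {n : ℕ} (hc : c.natAbs = n) (hn : n = 1 ∨ (n.Prime ∧ p ≠ n)) : (c : K) ≠ 0 := by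
  intro h0
  have hd : p ∣ c.natAbs := Int.natCast_dvd.1 ((CharP.intCast_eq_zero_iff K p c).1 h0)
  rw [hc] at hd
  rcases hn with e | ⟨hnp, e⟩
  · exact hp.out.one_lt.ne' (Nat.dvd_one.1 (e ▸ hd))
  · exact e ((Nat.prime_dvd_prime_iff_eq hp.out hnp).1 hd)

/-- one root length -/
theorem Over.field_one (O : Over C σ M) [Finite ↥M] {L : ℕ → Bool}
    (hcl : ∀ (i : Fin D.rank) (r : Fin D.nroots), L r.val = true → L (C.G.w i r).val = true)
    (hclass : chkClass D L = true) (hall : ∀ r, L r = true) (hmul : chkMul D L true true true 1 (pClass p) = true)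
    (r₀ : Fin D.nroots) :
    ∃ E : Subfield K, ∀ (r : Fin D.nroots) (t : K), C.G.xu r t ∈ M ↔ t ∈ E := by
  obtain ⟨E, hE⟩ := exists_subfield (param_finite (C := C) (M := M) r₀) (O.param_one r₀) fun a ha b hb =>
    O.mul_mem_param p hcl hclass hmul (hall _) (hall _) (hall _) (fun c hc => cast_ne_of_natAbs p hc (Or.inl rfl)) ha hb
  exact ⟨E, fun r t => by rw [hE, ← mem_param, O.param_class hcl hclass (r := r) (s := r₀) (by rw [hall, hall])]⟩

/-- two root lengths with an `SL₂` squaring or cubing the short parameters into the long ones -/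
theorem Over.field_two (O : Over C σ M) [Finite ↥M] {L : ℕ → Bool}
    (hcl : ∀ (i : Fin D.rank) (r : Fin D.nroots), L r.val = true → L (C.G.w i r).val = true)
    (hclass : chkClass D L = true) {rl rs : Fin D.nroots} (hl : L rl.val = true) (hs : L rs.val = false)
    (hmul : chkMul D L true true true 1 (pClass p) = true) (hpr : chkPairing D L true false 1 = true)
    (hshort : ∀ E : Subfield K, (∀ t, t ∈ E ↔ t ∈ param C M rl) → param C M rs ≤ param C M rl) :
    ∃ E : Subfield K, ∀ (r : Fin D.nroots) (t : K), C.G.xu r t ∈ M ↔ t ∈ E := by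
  obtain ⟨E, hE⟩ := exists_subfield (param_finite (C := C) (M := M) rl) (O.param_one rl) fun a ha b hb =>
    O.mul_mem_param p hcl hclass hmul hl hl hl (fun c hc => cast_ne_of_natAbs p hc (Or.inl rfl)) ha hb
  have h1 : param C M rl ≤ param C M rs := by
    intro t ht
    rcases O.pow_mem_param hcl hclass hpr hl hs
        (fun x hx => (hE _).1 (inv_mem ((hE x).2 hx))) ht with h | h
    · rwa [pow_one] at h
    · rw [h]; exact zero_mem _
  have h2 := hshort E hE
  refine ⟨E, fun r t => ?_⟩
  rw [hE, ← mem_param]
  cases hr : L r.val with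
  | false =>
    rw [O.param_class hcl hclass (r := r) (s := rs) (hr.trans hs.symm)]
    exact ⟨fun h => h2 h, fun h => h1 h⟩
  | true => rw [O.param_class hcl hclass (r := r) (s := rl) (hr.trans hl.symm)]

/-- the short parameters when they form a field with squares or cubes among the long ones -/
theorem Over.short_le (O : Over C σ M) [Finite ↥M] {L : ℕ → Bool}
    (hcl : ∀ (i : Fin D.rank) (r : Fin D.nroots), L r.val = true → L (C.G.w i r).val = true)
    (hclass : chkClass D L = true) {rl rs : Fin D.nroots} (hl : L rl.val = true) (hs : L rs.val = false)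
    {n m : ℕ} (hm : ∀ c : ℤ, c.natAbs = m → (c : K) ≠ 0) (hmul : chkMul D L false false false m (pClass p) = true)
    (hpr : chkPairing D L false true n = true)
    (hgen : ∀ F : Subfield K, Finite ↥F → ∀ t : ↥F, ∃ x y : ↥F, x ^ n + y ^ n = t) :
    param C M rs ≤ param C M rl := by
  obtain ⟨F, hF⟩ := exists_subfield (param_finite (C := C) (M := M) rs) (O.param_one rs) fun a ha b hb =>
    O.mul_mem_param p hcl hclass hmul hs hs hs hm ha hb
  haveI hFf : Finite ↥F :=
    ((param_finite (C := C) (M := M) rs).subset fun t ht => (hF t).1 ht).to_subtype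
  intro t ht
  obtain ⟨x, y, e⟩ := hgen F hFf ⟨t, (hF t).2 ht⟩
  have e' : (x : K) ^ n + (y : K) ^ n = t := congrArg Subtype.val e
  have key : ∀ z : ↥F, (z : K) ^ n ∈ param C M rl := fun z => by
    rcases O.pow_mem_param hcl hclass hpr hs hl
        (fun x hx => (hF _).1 (inv_mem ((hF x).2 hx))) ((hF _).1 z.2) with h | h
    · exact h
    · rw [h]
      cases n with
      | zero => rw [pow_zero]; exact O.param_one rl
      | succ n => rw [zero_pow (Nat.succ_ne_zero n)]; exact zero_mem _
  rw [← e']
  exact add_mem (key x) (key y)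

end CfsgLib.Lie.Chev.Sub

namespace CfsgLib.Lie.Chev.Sub

open Cfsg.Lie
open scoped MatrixGroups

/-- the long roots of `G₂` -/
def longG2 (r : ℕ) : Bool := [0, 1, 5, 6, 10, 11].contains r

/-- the long roots of `F₄` -/
def longF4 (r : ℕ) : Bool :=
  [0, 1, 2, 4, 5, 6, 15, 16, 17, 21, 22, 23, 24, 25, 26, 30, 31, 32, 41, 42, 43, 45, 46, 47].contains r

variable {K : Type*} [Field K] (p : ℕ) [hp : Fact p.Prime] [CharP K p]

include hp in
/-- the checks passed by all the data and the parameters of a finite overgroup -/
theorem field_and_checks {D : ChevalleyDatum}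
    (hD : D ∈ [chevG2, chevB2, chevD4, chevF4, chevE6, chevE7, chevE8]) (C : Full D) (σ : K →+* K)
    (M : Subgroup (GL D.Idx K)) [Finite ↥M] (O : Over C σ M) :
    (∃ E : Subfield K, ∀ (r : Fin D.nroots) (t : K), C.G.xu r t ∈ M ↔ t ∈ E) ∧
    ∀ (σ' : K →+* K), Over C σ' M → {t : K | σ' t = t}.Finite →
      (∀ (r : Fin D.nroots) (t : K), C.G.xu r t ∈ M → σ' t = t) → ∀ h ∈ M, fmap D σ' h = h := by
  have hmem : pClass p ∈ [2, 3, 5] := by
    rcases pClass_cases hp.out with e | e | e <;> simp [e]
  have hone : ∀ c : ℤ, c.natAbs = 1 → (c : K) ≠ 0 := fun c hc => cast_ne_of_natAbs p hc (Or.inl rfl)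
  have main : ∀ {L : ℕ → Bool}, chkData D L = true →
      (∀ (σ' : K →+* K), Over C σ' M → (∀ (r : Fin D.nroots) (t : K), C.G.xu r t ∈ M → σ' t = t) →
        chkTerms D (pClass p) = true → ∀ z ∈ Zt C K (pClass p), z ∈ M → fmap D σ' z = z) →
      ∀ (σ' : K →+* K), Over C σ' M → {t : K | σ' t = t}.Finite →
        (∀ (r : Fin D.nroots) (t : K), C.G.xu r t ∈ M → σ' t = t) → ∀ h ∈ M, fmap D σ' h = h := by
    intro L hdata hZ σ' O' hfin hrat
    simp only [chkData, Bool.and_eq_true, List.all_eq_true] at hdata
    obtain ⟨⟨⟨⟨-, hemb⟩, hinv⟩, htor⟩, hterms⟩ := hdata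
    exact O'.all_fixed p inferInstance hfin (chkSupp_all hD) (chkPairOut_all hD) htor hemb (fun _ => hinv)
      fun u hu huM => O'.unip_fixed p (hterms _ hmem) (hZ σ' O' hrat (hterms _ hmem)) hu huM
  have hcl_of : ∀ {L : ℕ → Bool}, chkEmb D L = true →
      ∀ (i : Fin D.rank) (r : Fin D.nroots), L r.val = true → L (C.G.w i r).val = true := fun h => by
    obtain ⟨-, -, -, -, hcl, -⟩ := emb_facts C h
    exact hcl
  have hD' := hD
  simp only [List.mem_cons, List.not_mem_nil, or_false] at hD'
  rcases hD' with rfl | rfl | rfl | rfl | rfl | rfl | rfl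
  · have hdata : chkData chevG2 longG2 = true := by decide +kernel
    refine ⟨?_, main hdata fun σ' O' hrat h => O'.shape_fixed p h (qs := [2, 3, 5]) (by decide +kernel) hmem hrat⟩
    have hcl := hcl_of (L := longG2) (by decide +kernel)
    have hclass : chkClass chevG2 longG2 = true := by decide +kernel
    have hpc := pClass_cases hp.out
    refine O.field_two p hcl hclass (rl := ⟨0, by decide +kernel⟩) (rs := ⟨2, by decide +kernel⟩)
      (by decide +kernel) (by decide +kernel)
      (by rcases hpc with e | e | e <;> rw [e] <;> decide +kernel) (by decide +kernel) fun E _ => ?_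
    by_cases h3 : p = 3
    · subst h3
      refine O.short_le 3 hcl hclass (n := 3) (m := 2) (by decide +kernel) (by decide +kernel)
        (fun c hc => cast_ne_of_natAbs 3 hc (Or.inr ⟨Nat.prime_two, by norm_num⟩))
        (show chkMul chevG2 longG2 false false false 2 3 = true by decide +kernel) (by decide +kernel) fun F _ t => ?_
      haveI : CharP ↥F 3 := (RingHom.charP_iff F.subtype F.subtype.injective 3).2 inferInstance
      obtain ⟨x, hx⟩ := (Finite.injective_iff_surjective.1 (frobenius_inj ↥F 3)) t
      exact ⟨x, 0, by rw [zero_pow three_ne_zero, add_zero, ← hx, frobenius_def]⟩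
    · intro t ht
      have hm := O.mul_mem_param p hcl hclass (la := false) (lb := false) (lq := true) (n := 3)
        (by rcases hpc with e | e | e <;> rw [e] <;> decide +kernel)
        (ra := ⟨2, by decide +kernel⟩) (rb := ⟨2, by decide +kernel⟩) (rq := ⟨0, by decide +kernel⟩)
        (by decide +kernel) (by decide +kernel) (by decide +kernel)
        (fun c hc => cast_ne_of_natAbs p hc (Or.inr ⟨Nat.prime_three, h3⟩)) ht (O.param_one _)
      rwa [mul_one] at hm
  · refine ⟨O.field_B2 p (hcl_of (L := longB2) (by decide +kernel)),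
      main (show chkData chevB2 longB2 = true by decide +kernel) fun σ' O' hrat h => ?_⟩
    rcases pClass_cases hp.out with e | e | e
    · obtain rfl := eq_two_of_pClass hp.out e
      exact O'.term_B2 hrat
    · exact O'.shape_fixed p h (qs := [3, 5]) (by decide +kernel) (by simp [e]) hrat
    · exact O'.shape_fixed p h (qs := [3, 5]) (by decide +kernel) (by simp [e]) hrat
  · exact ⟨O.field_one p (L := fun _ => true) (hcl_of (L := fun _ => true) (by decide +kernel)) (by decide +kernel) (fun _ => rfl)
      (by rcases pClass_cases hp.out with e | e | e <;> rw [e] <;> decide +kernel) ⟨0, by decide +kernel⟩,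
      main (L := fun _ => true) (by decide +kernel)
        fun σ' O' hrat h => O'.shape_fixed p h (qs := [2, 3, 5]) (by decide +kernel) hmem hrat⟩
  · refine ⟨?_, main (show chkData chevF4 longF4 = true by decide +kernel)
      fun σ' O' hrat h => O'.shape_fixed p h (qs := [2, 3, 5]) (by decide +kernel) hmem hrat⟩
    have hcl := hcl_of (L := longF4) (by decide +kernel)
    have hclass : chkClass chevF4 longF4 = true := by decide +kernel
    refine O.field_two p hcl hclass (rl := ⟨0, by decide +kernel⟩) (rs := ⟨3, by decide +kernel⟩)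
      (by decide +kernel) (by decide +kernel)
      (by rcases pClass_cases hp.out with e | e | e <;> rw [e] <;> decide +kernel) (by decide +kernel) fun E _ => ?_
    refine O.short_le p hcl hclass (n := 2) (m := 1) (by decide +kernel) (by decide +kernel) hone
      (by rcases pClass_cases hp.out with e | e | e <;> rw [e] <;> decide +kernel) (by decide +kernel) fun F hF t => ?_
    haveI := Fintype.ofFinite ↥F
    haveI : CharP ↥F p := (RingHom.charP_iff F.subtype F.subtype.injective p).2 inferInstance
    obtain ⟨x, y, e⟩ := WCl.exists_sq_add_sq t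
    exact ⟨x, y, e⟩
  · exact ⟨O.field_one p (L := fun _ => true) (hcl_of (L := fun _ => true) (by decide +kernel)) (by decide +kernel) (fun _ => rfl)
      (by rcases pClass_cases hp.out with e | e | e <;> rw [e] <;> decide +kernel) ⟨0, by decide +kernel⟩,
      main (L := fun _ => true) (by decide +kernel)
        fun σ' O' hrat h => O'.shape_fixed p h (qs := [2, 3, 5]) (by decide +kernel) hmem hrat⟩
  · exact ⟨O.field_one p (L := fun _ => true) (hcl_of (L := fun _ => true) (by decide +kernel)) (by decide +kernel) (fun _ => rfl)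
      (by rcases pClass_cases hp.out with e | e | e <;> rw [e] <;> decide +kernel) ⟨0, by decide +kernel⟩,
      main (L := fun _ => true) (by decide +kernel)
        fun σ' O' hrat h => O'.shape_fixed p h (qs := [2, 3, 5]) (by decide +kernel) hmem hrat⟩
  · exact ⟨O.field_one p (L := fun _ => true) (hcl_of (L := fun _ => true) (by decide +kernel)) (by decide +kernel) (fun _ => rfl)
      (by rcases pClass_cases hp.out with e | e | e <;> rw [e] <;> decide +kernel) ⟨0, by decide +kernel⟩,
      main (L := fun _ => true) (by decide +kernel)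
        fun σ' O' hrat h => O'.shape_fixed p h (qs := [2, 3, 5]) (by decide +kernel) hmem hrat⟩

end CfsgLib.Lie.Chev.Sub
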