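import Cfsg.Agent.Lib.Lie.Chev.Sub.Unip
import Cfsg.Agent.Lib.Lie.Chev.BorelTits

/-!
# Fixed elements of `p`-power order and torus translates of unipotent elements
-/

set_option autoImplicit false
set_option linter.unusedSectionVars false

namespace CfsgLib.Lie.Chev.Sub

open Cfsg.Lie
open scoped MatrixGroups

variable {D : ChevalleyDatum} {K : Type*} [Field K]

/-- fixed diagonal elements normalise the root elements with fixed parameters -/
theorem lfix_conj (C : Full D) (σ : K →+* K) {a : GL D.Idx K} (ha : a ∈ D.diagonalSubgroup K)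
    (hσa : fmap D σ a = a) {x : GL D.Idx K} (hx : x ∈ Lfix C.G σ) : a * x * a⁻¹ ∈ Lfix C.G σ := by
  induction hx using Subgroup.closure_induction with
  | one => simp
  | mul p q _ _ hp hq =>
    rw [show a * (p * q) * a⁻¹ = (a * p * a⁻¹) * (a * q * a⁻¹) by group]
    exact mul_mem hp hq
  | inv p _ hp =>
    rw [show a * p⁻¹ * a⁻¹ = (a * p * a⁻¹)⁻¹ by group]
    exact inv_mem hp
  | mem p hp =>
    obtain ⟨r, t, ht, rfl⟩ := hp
    obtain ⟨c, hc⟩ := C.G.H_conj_xu ha r
    have h1 := congrArg (fmap D σ) (hc t)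
    rw [map_mul, map_mul, map_inv, hσa, C.G.fmap_xu, C.G.fmap_xu, ht, hc] at h1
    rw [hc]
    exact Subgroup.subset_closure ⟨r, _, (C.G.xu_injective r h1).symm, rfl⟩

/-- fixed elements of `p`-power order are in the group of the root elements with fixed parameters -/
theorem mem_lfix_of_pow (C : Full D) (σ : K →+* K) (hfin : {t : K | σ t = t}.Finite) (p : ℕ)
    [hp : Fact p.Prime] [CharP K p] {d : GL D.Idx K} (hd : d ∈ D.group K) (hσd : fmap D σ d = d)
    {k : ℕ} (hpd : d ^ p ^ k = 1) : d ∈ Lfix C.G σ := by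
  classical
  obtain ⟨l, hl, h, hh, hσh, rfl⟩ := C.fixed_decomp σ hd hσd
  set F := σ.eqLocusField (RingHom.id K)
  haveI : Finite ↥F := hfin.to_subtype
  haveI := Fintype.ofFinite ↥F
  haveI : CharP ↥F p := (RingHom.charP_iff F.subtype F.subtype.injective p).2 inferInstance
  set n := Fintype.card ↥F - 1
  have hn : h ^ n = 1 := by
    obtain ⟨c, rfl⟩ := C.G.exists_tor hh
    rw [← map_pow]
    apply Units.ext
    rw [C.G.coe_tor, Units.val_one]
    ext i j
    by_cases e : i = j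
    · subst e
      have h1 := congrFun (congrFun (congrArg (fun u : GL D.Idx K => (u : Matrix D.Idx D.Idx K)) hσh) i) i
      have h2 : ((C.G.tor c ^ n : GL D.Idx K) : Matrix D.Idx D.Idx K) i i =
          ((C.G.tor c : GL D.Idx K) : Matrix D.Idx D.Idx K) i i ^ n := by
        rw [Units.val_pow_eq_pow_val, C.G.coe_tor, Matrix.diagonal_pow]
        simp
      rw [← C.G.coe_tor, map_pow, h2, Matrix.one_apply_eq]
      simp only [coe_fmap, Matrix.map_apply] at h1
      set x := ((C.G.tor c : GL D.Idx K) : Matrix D.Idx D.Idx K) i i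
      have hx : x ≠ 0 := by
        simp only [x, C.G.coe_tor, Matrix.diagonal_apply_eq]
        exact Units.ne_zero _
      exact congrArg Subtype.val (FiniteField.pow_card_sub_one_eq_one (⟨x, h1⟩ : ↥F)
        (fun e => hx (congrArg Subtype.val e)))
    · rw [Matrix.diagonal_apply_ne _ e, Matrix.one_apply_ne e]
  have hm : ∀ m : ℕ, (l * h) ^ m * (h ^ m)⁻¹ ∈ Lfix C.G σ := by
    intro m
    induction m with
    | zero => simp
    | succ m ih =>
      rw [show (l * h) ^ (m + 1) * (h ^ (m + 1))⁻¹ = (l * h) ^ m * (h ^ m)⁻¹ * (h ^ m * l * (h ^ m)⁻¹) by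
        rw [pow_succ, pow_succ]; group]
      exact mul_mem ih (lfix_conj C σ (pow_mem hh m) (by rw [map_pow, hσh]) hl)
  have h1 : (l * h) ^ n ∈ Lfix C.G σ := by simpa [hn] using hm n
  have hcop : Nat.gcd (p ^ k) n = 1 := by
    refine Nat.Coprime.pow_left k ((Nat.Prime.coprime_iff_not_dvd hp.out).2 fun hdvd => ?_)
    obtain ⟨m, hm1, hcard⟩ := FiniteField.card ↥F p
    have hpc : p ∣ Fintype.card ↥F := hcard ▸ dvd_pow_self p m.ne_zero
    have := Nat.dvd_sub hpc hdvd
    rw [Nat.sub_sub_self Fintype.card_pos] at this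
    exact hp.out.one_lt.ne' (Nat.dvd_one.1 this)
  have e : l * h = ((l * h) ^ n) ^ (Nat.gcdB (p ^ k) n) := by
    conv_lhs => rw [← zpow_one (l * h), show (1 : ℤ) = (Nat.gcd (p ^ k) n : ℕ) by rw [hcop]; rfl,
      Nat.gcd_eq_gcd_ab, zpow_add, zpow_mul, zpow_mul, zpow_natCast, zpow_natCast, hpd, one_zpow, one_mul]
  rw [e]
  exact zpow_mem h1 _

/-- fixed elements of `p`-power order are conjugate into the positive unipotent group -/
theorem fixed_conj_le_U (C : Full D) (σ : K →+* K) (hfin : {t : K | σ t = t}.Finite) (p : ℕ)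
    [Fact p.Prime] [CharP K p] {d : GL D.Idx K} (hd : d ∈ D.group K) (hσd : fmap D σ d = d)
    (hpd : ∃ k : ℕ, d ^ p ^ k = 1) :
    ∃ g ∈ D.group K, ∀ x ∈ Subgroup.zpowers d, g * x * g⁻¹ ∈ D.posUnipotent K := by
  classical
  obtain ⟨k, hk⟩ := hpd
  set F := σ.eqLocusField (RingHom.id K)
  haveI : Finite ↥F := hfin.to_subtype
  haveI := Fintype.ofFinite ↥F
  haveI : CharP ↥F p := (RingHom.charP_iff F.subtype F.subtype.injective p).2 inferInstance
  have hle : Lfix C.G σ ≤ (D.group ↥F).map (fmap D F.subtype) := by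
    rw [Lfix, Subgroup.closure_le]
    rintro g ⟨r, t, ht, rfl⟩
    exact ⟨C.G.xu r ⟨t, ht⟩, C.G.xu_mem r _, C.G.fmap_xu F.subtype r _⟩
  obtain ⟨d₀, hd₀, rfl⟩ := hle (mem_lfix_of_pow C σ hfin p hd hσd hk)
  have hd₀p : d₀ ^ p ^ k = 1 := fmap_injective F.subtype (by rw [map_pow, hk, map_one])
  have hQp : IsPGroup p (Subgroup.zpowers d₀) := by
    rintro ⟨x, m, rfl⟩
    refine ⟨k, Subtype.ext ?_⟩
    rw [SubgroupClass.coe_pow, OneMemClass.coe_one, ← zpow_natCast, ← zpow_mul, mul_comm, zpow_mul, zpow_natCast,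
      hd₀p, one_zpow]
  obtain ⟨g, hg, hgU⟩ := C.conj_le_posUnipotent p (Subgroup.zpowers d₀) (Subgroup.zpowers_le.2 hd₀) hQp
  refine ⟨fmap D F.subtype g, C.G.fmap_mem_group _ hg, ?_⟩
  rintro x ⟨m, rfl⟩
  have h1 := C.G.fmap_mem_U F.subtype (hgU (d₀ ^ m) ⟨m, rfl⟩)
  simpa only [map_mul, map_inv, map_zpow] using h1

/-- the only positive root of a single node -/
theorem eq_simp_of_inJ_single (C : Full D) {i : Fin D.rank} {r : Fin D.nroots} (hr : D.IsPosRoot r.val)
    (h : InJ C.G {i} r) : r = C.G.simp' i := by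
  refine C.G.rho_injective ?_
  have h0 : ∀ j, j ≠ i → C.G.rho r j = 0 := fun j hj => h j (by simpa using hj)
  obtain ⟨φ, hφ⟩ := C.G.primitive r
  rw [Finset.sum_eq_single i (fun j _ hj => by rw [h0 j hj, mul_zero])
    (fun h' => absurd (Finset.mem_univ i) h')] at hφ
  have h1 : C.G.rho r i = 1 := Int.eq_one_of_mul_eq_one_left (C.G.rho_nonneg hr i) hφ
  funext j
  rw [C.G.rho_simp]
  by_cases hj : j = i
  · subst hj; rw [h1, Pi.single_eq_same]
  · rw [h0 j hj, Pi.single_eq_of_ne hj]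

/-- the negative root group of a node of `J` -/
theorem negr_simp_mem_PJ (C : Full D) {J : Finset (Fin D.rank)} {i : Fin D.rank} (hi : i ∈ J) (t : K) :
    C.G.xu (C.G.negr (C.G.simp' i)) t ∈ C.PJ J := by
  have hn : (C.G.nU i : GL D.Idx K) ∈ C.PJ J :=
    Subgroup.mem_sup_right (Subgroup.subset_closure (Set.mem_image_of_mem _ hi))
  have hx : C.G.xu (C.G.simp' i) ((C.G.eta i (C.G.simp' i) : K) * t) ∈ C.PJ J :=
    Subgroup.mem_sup_left (Subgroup.mem_sup_left (C.G.xu_mem_U (C.G.simp_pos i) _))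
  have h := mul_mem (mul_mem hn hx) (inv_mem hn)
  rw [C.G.nU_xu, mul_inv_cancel_right, C.G.w_simp, ← mul_assoc] at h
  rcases C.G.eta_unit i (C.G.simp' i) with e | e <;> simpa [e] using h

variable {C : Full D} {σ : K →+* K} {H : Subgroup (GL D.Idx K)}

/-- a unipotent element in an overgroup up to a fixed torus element is fixed -/
theorem Over.ut_fixed (O : Over C σ H) (p : ℕ) [Fact p.Prime] [CharP K p] (hchk : chkTerms D (pClass p) = true)
    (hsimp : (List.range D.rank).all (fun i => !((termsB D (pClass p)).contains (D.simple i))) = true)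
    (hu : ∀ u ∈ D.posUnipotent K, u ∈ H → fmap D σ u = u) {u t : GL D.Idx K} (huU : u ∈ D.posUnipotent K)
    (ht : t ∈ D.diagonalSubgroup K) (hσt : fmap D σ t = t) (huH : u * t ∈ H) : fmap D σ u = u := by
  classical
  have huG := C.G.posUnipotent_le_group huU
  -- conjugates of fixed unipotent elements
  have hyp : ∀ y ∈ D.posUnipotent K, fmap D σ y = y → fmap D σ (u⁻¹ * y * u) = u⁻¹ * y * u := by
    intro y hy hσy
    have h1 : (u * t)⁻¹ * y * (u * t) ∈ H := mul_mem (mul_mem (inv_mem huH) (O.fixU_mem hy hσy)) huH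
    have h2 : (u * t)⁻¹ * y * (u * t) ∈ D.posUnipotent K := by
      have := (Subgroup.mem_normalizer_iff''.1 (C.G.H_normalizes_U ht) (u⁻¹ * y * u)).1
        (mul_mem (mul_mem (inv_mem huU) hy) huU)
      simpa [mul_assoc] using this
    have h3 := hu _ h2 h1
    rw [show (u * t)⁻¹ * y * (u * t) = t⁻¹ * (u⁻¹ * y * u) * t by group, map_mul, map_mul (fmap D σ) t⁻¹,
      map_inv, hσt, mul_left_inj, mul_right_inj] at h3
    exact h3
  obtain ⟨f, hfU, hf, z, hz, rfl⟩ := exists_fixed_mul_term C (σ := σ) p hchk D.nroots 0 (Nat.zero_add _) u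
    (by rwa [← C.G.posUnipotent_eq]) hyp
  have hzt : z * t ∈ H := by simpa [mul_assoc] using mul_mem (inv_mem (O.fixU_mem hfU hf)) huH
  rw [map_mul, hf]
  congr 1
  set w := z⁻¹ * fmap D σ z
  have hzU : ∀ x ∈ Zt C K (pClass p), x ∈ D.posUnipotent K ∧ (∀ y ∈ D.posUnipotent K, Commute x y) ∧
      fmap D σ x ∈ Zt C K (pClass p) := by
    intro x hx
    induction hx using Subgroup.closure_induction with
    | one => exact ⟨one_mem _, fun y _ => Commute.one_left y, by rw [map_one]; exact one_mem _⟩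
    | mul a b _ _ ha hb =>
      exact ⟨mul_mem ha.1 hb.1, fun y hy => (ha.2.1 y hy).mul_left (hb.2.1 y hy),
        by rw [map_mul]; exact mul_mem ha.2.2 hb.2.2⟩
    | inv a _ ha =>
      exact ⟨inv_mem ha.1, fun y hy => (ha.2.1 y hy).inv_left, by rw [map_inv]; exact inv_mem ha.2.2⟩
    | mem x hx =>
      obtain ⟨r, c, hr, rfl⟩ := hx
      have hp := (mem_posRoots.1 (List.mem_filter.1 hr).1).2
      exact ⟨C.G.xu_mem_U hp c, fun y hy => commute_term C p hchk hp hr c hy,
        Subgroup.subset_closure ⟨r, σ c, hr, C.G.fmap_xu σ r c⟩⟩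
  have hw : w ∈ Zt C K (pClass p) := mul_mem (inv_mem hz) (hzU z hz).2.2
  have hcp : ∀ r : Fin D.nroots, D.IsPosRoot r.val → Commute w (C.G.xu r (1 : K)) := fun r hr =>
    (hzU w hw).2.1 _ (C.G.xu_mem_U hr 1)
  have hneg : ∀ i : Fin D.rank, Commute w (C.G.xu (C.G.negr (C.G.simp' i)) (1 : K)) := by
    intro i
    set a := C.G.negr (C.G.simp' i)
    obtain ⟨c, hc⟩ := C.G.H_conj_xu ht a
    have hσc : σ (c : K) = c := by
      have h1 := congrArg (fmap D σ) (hc 1)
      rw [map_mul, map_mul, map_inv, hσt, C.G.fmap_xu, C.G.fmap_xu, map_one, hc, mul_one] at h1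
      exact (C.G.xu_injective a h1).symm
    have hx : C.G.xu a ((c : K)⁻¹ * 1) ∈ H := O.xu_mem (by rw [map_mul, map_inv₀, hσc, map_one])
    have h1 : z * C.G.xu a 1 * z⁻¹ * (C.G.xu a 1)⁻¹ ∈ H := by
      have h2 := mul_mem (mul_mem hzt hx) (inv_mem hzt)
      rw [show z * t * C.G.xu a ((c : K)⁻¹ * 1) * (z * t)⁻¹ = z * (t * C.G.xu a ((c : K)⁻¹ * 1) * t⁻¹) * z⁻¹ by group,
        hc, ← mul_assoc, mul_inv_cancel₀ (Units.ne_zero c), one_mul] at h2
      exact mul_mem h2 (inv_mem (O.xu_mem (map_one σ)))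
    let J : Finset (Fin D.rank) := {i}
    have hzR : z ∈ (UR C.G J : Subgroup (GL D.Idx K)) := by
      suffices hg : ∀ x ∈ Zt C K (pClass p), x ∈ (UR C.G J : Subgroup (GL D.Idx K)) from hg z hz
      intro x hx
      induction hx using Subgroup.closure_induction with
      | one => exact one_mem _
      | mul a b _ _ ha hb => exact mul_mem ha hb
      | inv a _ ha => exact inv_mem ha
      | mem x hx =>
        obtain ⟨r, c, hr, rfl⟩ := hx
        have hp := (mem_posRoots.1 (List.mem_filter.1 hr).1).2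
        refine Subgroup.subset_closure ⟨r, c, ⟨hp, fun hin => ?_⟩, rfl⟩
        have e := eq_simp_of_inJ_single C hp hin
        have := List.all_eq_true.1 hsimp i.val (List.mem_range.2 i.isLt)
        rw [← C.G.simp_val, ← e] at this
        simp [hr] at this
    have hxP : C.G.xu a (1 : K) ∈ C.PJ J := negr_simp_mem_PJ C (by simp [J]) 1
    have h3 : z * C.G.xu a 1 * z⁻¹ * (C.G.xu a 1)⁻¹ ∈ D.posUnipotent K := by
      rw [show z * C.G.xu a 1 * z⁻¹ * (C.G.xu a 1)⁻¹ = z * (C.G.xu a 1 * z⁻¹ * (C.G.xu a 1)⁻¹) by group]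
      exact C.G.UR_le_U (mul_mem hzR
        ((Subgroup.mem_normalizer_iff.1 (C.PJ_le_normalizer hxP) _).1 (inv_mem hzR)))
    have h4 := hu _ h3 h1
    simp only [map_mul, map_inv, C.G.fmap_xu, map_one] at h4
    rw [mul_left_inj] at h4
    show w * C.G.xu a 1 = C.G.xu a 1 * w
    calc z⁻¹ * fmap D σ z * C.G.xu a 1
        = z⁻¹ * (fmap D σ z * C.G.xu a 1 * (fmap D σ z)⁻¹) * fmap D σ z := by group
      _ = C.G.xu a 1 * w := by rw [h4]; simp only [w]; group
  have hw1 : w = 1 := by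
    refine C.central_eq_one (C.G.posUnipotent_le_group (hzU w hw).1) fun r => (?_ : Commute w (C.G.xu r 1))
    have hn : ∀ i : Fin D.rank, Commute w (C.G.nU i : GL D.Idx K) := fun i => by
      refine Commute.mul_right (Commute.mul_right (hcp _ (C.G.simp_pos i)) ?_) (hcp _ (C.G.simp_pos i))
      rw [← C.G.xu_inv]
      exact (hneg i).inv_right
    refine C.G.orbit (fun r => Commute w (C.G.xu r (1 : K))) (fun i _ => hcp _ (C.G.simp_pos i))
      (fun i r hr => ?_) r
    have e : C.G.nU i * C.G.xu r 1 * (C.G.nU i)⁻¹ = C.G.xu (C.G.w i r) ((C.G.eta i r : K) * 1) := by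
      rw [C.G.nU_xu]; group
    have h : Commute w (C.G.xu (C.G.w i r) ((C.G.eta i r : K) * 1)) :=
      e ▸ ((hn i).mul_right hr).mul_right (hn i).inv_right
    rcases C.G.eta_unit i r with e' | e'
    · simpa [e'] using h
    · simp only [e', Int.cast_neg, Int.cast_one, mul_one, ← C.G.xu_inv] at h
      exact Commute.inv_right_iff.1 h
  exact (inv_mul_eq_one.1 hw1).symm

end CfsgLib.Lie.Chev.Sub
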