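import Cfsg.Agent.Lib.Lie.Chev.Sub.RootClosed
import Cfsg.Agent.Lib.Lie.Chev.Sub.Terms
import Cfsg.Agent.Lib.Lie.Chev.Sub.Embedded
import Cfsg.Agent.Lib.Lie.Chev.AutData
import Cfsg.Agent.Lib.Lie.Chev.Tw.Frob

/-!
# The overgroups of a subfield subgroup of prime degree
-/

set_option autoImplicit false
set_option linter.unusedSectionVars false

namespace CfsgLib.Lie.Chev.Sub

open Cfsg.Lie
open scoped MatrixGroups

variable {D : ChevalleyDatum} {K : Type*} [Field K]

theorem eq_two_of_pClass {p : ℕ} (hp : p.Prime) (h : pClass p = 2) : p = 2 := by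
  unfold pClass at h
  split_ifs at h
  · exact h
  · omega

/-- the checks of a datum with a given orbit of the highest root -/
def chkData (D : ChevalleyDatum) (L : ℕ → Bool) : Bool :=
  chkLink D && chkEmb D L && chkInv D L && chkTor D && [2, 3, 5].all fun q => chkTerms D q

/-- in each class either a single terminal root, or two joined by a fundamental reflection -/
def chkShape (D : ChevalleyDatum) (qs : List ℕ) : Bool :=
  qs.all fun q => match termsB D q with
    | [θ] => Nat.blt θ D.nroots
    | [θs, θ] => Nat.blt θs D.nroots && Nat.blt θ D.nroots && chkTwo D θs θ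
    | _ => false

variable (p : ℕ) [Fact p.Prime] [CharP K p] {C : Full D} {σ : K →+* K} {H : Subgroup (GL D.Idx K)}

theorem Over.shape_fixed (O : Over C σ H) (hchk : chkTerms D (pClass p) = true) {qs : List ℕ}
    (hshape : chkShape D qs = true) (hq : pClass p ∈ qs)
    (hrat : ∀ (r : Fin D.nroots) (t : K), C.G.xu r t ∈ H → σ t = t) :
    ∀ z ∈ Zt C K (pClass p), z ∈ H → fmap D σ z = z := by
  have h := List.all_eq_true.1 hshape _ hq
  revert h
  split
  next θ e =>
    intro h
    exact O.term_one p (θ := ⟨θ, Nat.blt_eq ▸ h⟩) e hrat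
  next θs θ e =>
    intro h
    simp only [Bool.and_eq_true, Nat.blt_eq] at h
    exact O.term_two p hchk (θs := ⟨θs, h.1.1⟩) (θ := ⟨θ, h.1.2⟩) e h.2 hrat
  next => exact fun h => absurd h (by simp)

variable [Fintype K]

/-- an overgroup is the fixed group or everything -/
theorem Over.fixed_or_top (O : Over C σ H) {L : ℕ → Bool}
    (hD : D ∈ [chevG2, chevB2, chevD4, chevF4, chevE6, chevE7, chevE8]) (hdata : chkData D L = true)
    (hZ : chkTerms D (pClass p) = true → (∀ (r : Fin D.nroots) (t : K), C.G.xu r t ∈ H → σ t = t) →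
      ∀ z ∈ Zt C K (pClass p), z ∈ H → fmap D σ z = z)
    (hmax : ∀ E : Subfield K, σ.eqLocusField (RingHom.id K) ≤ E → E = σ.eqLocusField (RingHom.id K) ∨ E = ⊤) :
    (∀ h ∈ H, fmap D σ h = h) ∨ H = D.group K := by
  simp only [chkData, Bool.and_eq_true, List.all_eq_true] at hdata
  obtain ⟨⟨⟨⟨hlink, hemb⟩, hinv⟩, htor⟩, hterms⟩ := hdata
  by_cases htop : H = D.group K
  · exact Or.inr htop
  left
  have hrat : ∀ (r : Fin D.nroots) (t : K), C.G.xu r t ∈ H → σ t = t := fun r t h => by
    by_contra ht
    exact htop (O.top_of_irrational p hlink (connected_all hD) hmax ht h)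
  have hq : chkTerms D (pClass p) = true := hterms _ (by
    rcases pClass_cases (Fact.out : p.Prime) with e | e | e <;> simp [e])
  refine O.all_fixed p inferInstance (Set.toFinite _) (chkSupp_all hD) (chkPairOut_all hD) htor hemb (fun _ => hinv) ?_
  exact fun u hu huH => O.unip_fixed p hq (hZ hq hrat) hu huH

end CfsgLib.Lie.Chev.Sub

namespace CfsgLib.Lie.Chev.Sub

open Cfsg.Lie
open scoped MatrixGroups

variable {K : Type*} [Field K] [Fintype K] (p : ℕ) [Fact p.Prime] [CharP K p]

include p in
/-- the overgroups of the fixed points of a field map with maximal fixed field -/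
theorem fixed_or_top {D : ChevalleyDatum}
    (hD : D ∈ [chevG2, chevB2, chevD4, chevF4, chevE6, chevE7, chevE8]) (σ : K →+* K)
    (hmax : ∀ E : Subfield K, σ.eqLocusField (RingHom.id K) ≤ E → E = σ.eqLocusField (RingHom.id K) ∨ E = ⊤)
    {H : Subgroup (GL D.Idx K)} (hle : H ≤ D.group K)
    (hfix : ∀ g ∈ D.group K, fmap D σ g = g → g ∈ H) :
    (∀ h ∈ H, fmap D σ h = h) ∨ H = D.group K := by
  obtain ⟨C⟩ := nonempty_full hD
  have O : Over C σ H := Over.of_fix_le hle hfix
  have hD' := hD
  simp only [List.mem_cons, List.not_mem_nil, or_false] at hD'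
  have hmem : pClass p ∈ [2, 3, 5] := by
    rcases pClass_cases (Fact.out : p.Prime) with e | e | e <;> simp [e]
  rcases hD' with rfl | rfl | rfl | rfl | rfl | rfl | rfl
  · exact O.fixed_or_top p hD (L := fun r => [0, 1, 5, 6, 10, 11].contains r) (by decide +kernel)
      (fun h => O.shape_fixed p h (qs := [2, 3, 5]) (by decide +kernel) hmem) hmax
  · refine O.fixed_or_top p hD (L := fun r => [0, 3, 4, 7].contains r) (by decide +kernel) (fun h hrat => ?_) hmax
    rcases pClass_cases (Fact.out : p.Prime) with e | e | e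
    · obtain rfl := eq_two_of_pClass Fact.out e
      exact O.term_B2 hrat
    · exact O.shape_fixed p h (qs := [3, 5]) (by decide +kernel) (by simp [e]) hrat
    · exact O.shape_fixed p h (qs := [3, 5]) (by decide +kernel) (by simp [e]) hrat
  · exact O.fixed_or_top p hD (L := fun _ => true) (by decide +kernel)
      (fun h => O.shape_fixed p h (qs := [2, 3, 5]) (by decide +kernel) hmem) hmax
  · exact O.fixed_or_top p hD
      (L := fun r => [0, 1, 2, 4, 5, 6, 15, 16, 17, 21, 22, 23, 24, 25, 26, 30, 31, 32, 41, 42, 43, 45, 46, 47].contains r)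
      (by decide +kernel) (fun h => O.shape_fixed p h (qs := [2, 3, 5]) (by decide +kernel) hmem) hmax
  · exact O.fixed_or_top p hD (L := fun _ => true) (by decide +kernel)
      (fun h => O.shape_fixed p h (qs := [2, 3, 5]) (by decide +kernel) hmem) hmax
  · exact O.fixed_or_top p hD (L := fun _ => true) (by decide +kernel)
      (fun h => O.shape_fixed p h (qs := [2, 3, 5]) (by decide +kernel) hmem) hmax
  · exact O.fixed_or_top p hD (L := fun _ => true) (by decide +kernel)
      (fun h => O.shape_fixed p h (qs := [2, 3, 5]) (by decide +kernel) hmem) hmax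

/-- the fixed field of a power map of prime degree is maximal -/
theorem maximal_fixed_field {a r : ℕ} (ha : 1 ≤ a) (hr : r.Prime) (hK : Fintype.card K = (p ^ a) ^ r) :
    let σ := iterateFrobenius K p a
    (∀ E : Subfield K, σ.eqLocusField (RingHom.id K) ≤ E → E = σ.eqLocusField (RingHom.id K) ∨ E = ⊤) ∧
      ∃ t : K, σ t ≠ t := by
  classical
  intro σ
  set F := σ.eqLocusField (RingHom.id K)
  have h2 := (Fact.out : p.Prime).two_le
  have hq : 1 < p ^ a := Nat.one_lt_pow (by omega) (by omega)
  have hcF : Nat.card ↥F = p ^ a := by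
    rw [← Frob.card_fixed ((isPrimePow_nat_iff _).2 ⟨p, a, Fact.out, by omega, rfl⟩) hK]
    exact Nat.card_congr (Equiv.subtypeEquivRight fun x => by
      show σ x = RingHom.id K x ↔ _
      simp [σ, iterateFrobenius_def])
  refine ⟨fun E hE => ?_, ?_⟩
  · letI : Algebra ↥F ↥E := (Subfield.inclusion hE).toAlgebra
    have h1 : Nat.card K = Nat.card ↥E ^ Module.finrank ↥E K := Module.natCard_eq_pow_finrank
    have h3 : Nat.card ↥E = Nat.card ↥F ^ Module.finrank ↥F ↥E := Module.natCard_eq_pow_finrank
    rw [h3, hcF, ← pow_mul, Nat.card_eq_fintype_card, hK] at h1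
    have h4 : Module.finrank ↥F ↥E * Module.finrank ↥E K = r := (Nat.pow_right_injective hq h1).symm
    rcases hr.eq_one_or_self_of_dvd _ ⟨_, h4.symm⟩ with e | e
    · left
      rw [e, pow_one] at h3
      apply SetLike.coe_injective
      exact (Set.eq_of_subset_of_ncard_le hE (by
        rw [← Nat.card_coe_set_eq, ← Nat.card_coe_set_eq]
        exact h3.le) (Set.toFinite _)).symm
    · right
      rw [e, hcF, ← hK, ← Nat.card_eq_fintype_card] at h3
      apply SetLike.coe_injective
      refine Set.eq_of_subset_of_ncard_le (Set.subset_univ _) ?_ (Set.toFinite _)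
      rw [show ((⊤ : Subfield K) : Set K) = Set.univ from Subfield.coe_top, Set.ncard_univ, ← Nat.card_coe_set_eq]
      exact h3.ge
  · by_contra hall
    push Not at hall
    have hF : Nat.card ↥F = Nat.card K :=
      Nat.card_congr ⟨Subtype.val, fun t => ⟨t, hall t⟩, fun _ => rfl, fun _ => rfl⟩
    rw [hcF, Nat.card_eq_fintype_card, hK, ← pow_mul] at hF
    have := Nat.pow_right_injective h2 hF
    nlinarith [hr.two_le]

end CfsgLib.Lie.Chev.Sub
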