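import Cfsg.Agent.Lib.Lie.Chev.Sub.Fixed
import Cfsg.Agent.Lib.Lie.Chev.StCosets

/-!
# Elements of an overgroup of a subfield subgroup in parabolic subgroups

An element of a proper standard parabolic subgroup is fixed once the unipotent elements are; by the
theorem of Borel and Tits, so is every element moving a fixed unipotent element to a fixed one.
-/

set_option autoImplicit false
set_option linter.unusedSectionVars false

namespace CfsgLib.Lie.Chev.Sub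

open Cfsg.Lie
open scoped MatrixGroups

variable {D : ChevalleyDatum} {K : Type*} [Field K]

section fieldmap

variable (C : Full D) (σ : K →+* K) {J : Finset (Fin D.rank)}

theorem fmap_mem_UR {g : GL D.Idx K} (hg : g ∈ (UR C.G J : Subgroup (GL D.Idx K))) :
    fmap D σ g ∈ (UR C.G J : Subgroup (GL D.Idx K)) :=
  C.G.fmap_mem_closure σ _ hg

theorem fmap_mem_PJ {g : GL D.Idx K} (hg : g ∈ C.PJ J) : fmap D σ g ∈ C.PJ J := by
  have hle : C.PJ (K := K) J ≤ (C.PJ J).comap (fmap D σ) := by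
    refine sup_le (sup_le (fun x hx => Subgroup.mem_sup_left (Subgroup.mem_sup_left (C.G.fmap_mem_U σ hx)))
      (fun x hx => Subgroup.mem_sup_left (Subgroup.mem_sup_right (C.G.fmap_mem_H σ hx)))) ?_
    rw [Subgroup.closure_le]
    rintro g ⟨i, hi, rfl⟩
    rw [SetLike.mem_coe, Subgroup.mem_comap, C.G.fmap_nU]
    exact Subgroup.mem_sup_right (Subgroup.subset_closure (Set.mem_image_of_mem _ hi))
  exact hle hg

theorem fmap_mem_levi {g : GL D.Idx K} (hg : g ∈ D.diagonalSubgroup K ⊔ LJ C.G J) :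
    fmap D σ g ∈ D.diagonalSubgroup K ⊔ LJ C.G J := by
  have hle : D.diagonalSubgroup K ⊔ LJ C.G J ≤ (D.diagonalSubgroup K ⊔ LJ C.G J).comap (fmap D σ) :=
    sup_le (fun x hx => Subgroup.mem_sup_left (C.G.fmap_mem_H σ hx))
      fun x hx => Subgroup.mem_sup_right (C.G.fmap_mem_closure σ _ hx)
  exact hle hg

theorem fmap_nr (w : Equiv.Perm (Fin D.nroots)) : fmap D σ (C.nr w) = C.nr w := by
  rw [Full.nr]
  split
  · exact C.G.fmap_nw σ _
  · exact map_one _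

/-- a fixed coset of a parabolic subgroup has a fixed element -/
theorem exists_fixed_rep (hchk : chkSupp D = true) {k : GL D.Idx K} (hk : k ∈ D.group K)
    (h : fmap D σ k * k⁻¹ ∈ C.PJ J) :
    ∃ p ∈ C.PJ J, ∃ g ∈ D.group K, fmap D σ g = g ∧ k = p * g := by
  obtain ⟨b, hb, n, hn, π, hπ, c, hc, e⟩ := C.refined_exists (inv_mem hk)
  have hπW := C.perm_mem_Wg hn hπ
  obtain ⟨w, a, hwa, ha, hwW, hwu⟩ := C.G.exists_up_decomp J hπW
  obtain ⟨u, hu, d, hd, rfl⟩ := C.G.mem_borel_iff.1 hb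
  obtain ⟨u1, hu1, u2, hu2, rfl⟩ := C.exists_inv_keep w⁻¹ hu
  set m := C.nr (K := K) w
  have hmN : m ∈ D.monomialSubgroup K := C.nr_mem w
  have hm : C.G.NPerm m w := C.nr_perm hwW
  have h1 : m⁻¹ * u2 * m ∈ C.PJ J := C.borel_le_PJ J (Subgroup.mem_sup_left (C.conj_keep_U hm hu2))
  have h2 : m⁻¹ * d * n ∈ C.PJ J := by
    refine C.mem_PJ_of_cell ha ⟨1, one_mem _, _,
      mul_mem (mul_mem (inv_mem hmN) (C.G.H_le_monomial hd)) hn, ?_, 1, one_mem _, by rw [one_mul, mul_one]⟩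
    have := Good.NPerm.mul C.G (Good.NPerm.mul C.G (Good.NPerm.inv C.G hm) (C.G.nPerm_H hd)) hπ
    rwa [mul_one, hwa, inv_mul_cancel_left] at this
  have hcP : c ∈ C.PJ J := C.borel_le_PJ J (Subgroup.mem_sup_left (C.G.Uinv_le _ hc))
  set p := m⁻¹ * u2 * m * (m⁻¹ * d * n) * c
  have hp : p ∈ C.PJ J := mul_mem (mul_mem h1 h2) hcP
  have ek : k⁻¹ = u1 * m * p := by rw [e]; simp only [p]; group
  have hσu : fmap D σ u1 = u1 := by
    have e' : k = p⁻¹ * m⁻¹ * u1⁻¹ := by rw [← inv_inv k, ek]; group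
    have h3 : m⁻¹ * (u1⁻¹ * fmap D σ u1) * m ∈ C.PJ J := by
      have h4 := mul_mem (mul_mem hp (inv_mem h)) (inv_mem (fmap_mem_PJ C σ hp))
      rw [e', map_mul, map_mul, map_inv, map_inv, map_inv, show fmap D σ m = m from fmap_nr C σ w] at h4
      convert h4 using 1
      group
    have h5 := C.eq_one_of_VR_PJ hchk
      (C.conj_Uinv_VR hwW hwu hm (mul_mem (inv_mem hu1) (C.G.fmap_mem_Uinv σ _ hu1))) h3
    have h6 : u1⁻¹ * fmap D σ u1 = 1 := by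
      calc u1⁻¹ * fmap D σ u1 = m * (m⁻¹ * (u1⁻¹ * fmap D σ u1) * m) * m⁻¹ := by group
        _ = 1 := by rw [h5]; group
    exact (inv_mul_eq_one.1 h6).symm
  refine ⟨p⁻¹, inv_mem hp, (u1 * m)⁻¹, inv_mem (mul_mem (C.G.posUnipotent_le_group (C.G.Uinv_le _ hu1))
    (C.G.monomial_le_group hmN)), by rw [map_inv, map_mul, hσu, fmap_nr], ?_⟩
  rw [← inv_inv k, ek, mul_inv_rev]

end fieldmap

variable {C : Full D} {σ : K →+* K} {H : Subgroup (GL D.Idx K)}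

/-- the checks used for torus translates -/
def chkTor (D : ChevalleyDatum) : Bool :=
  [2, 3, 5].all fun q => chkTerms D q && (List.range D.rank).all fun i => !((termsB D q).contains (D.simple i))

variable (p : ℕ) [Fact p.Prime] [CharP K p]

include p in
/-- the elements in a proper parabolic subgroup are fixed -/
theorem Over.parab_fixed (O : Over C σ H) (hchk : chkSupp D = true) (hpair : chkPairOut D = true)
    (htor : chkTor D = true)
    (hu : ∀ u ∈ D.posUnipotent K, u ∈ H → fmap D σ u = u) {J : Finset (Fin D.rank)} (hJ : J ≠ Finset.univ)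
    {h : GL D.Idx K} (hh : h ∈ H) (hP : h ∈ C.PJ J) : fmap D σ h = h := by
  have hN := C.PJ_le_normalizer (J := J) hP
  have hc : h⁻¹ * fmap D σ h ∈ (UR C.G J : Subgroup (GL D.Idx K)) := by
    refine C.PJ_cent_one_le hchk hpair hJ (mul_mem (inv_mem hP) (fmap_mem_PJ C σ hP)) fun r hr hrJ => ?_
    have hxU : C.G.xu r (1 : K) ∈ (UR C.G J : Subgroup (GL D.Idx K)) :=
      Subgroup.subset_closure ⟨r, 1, ⟨hr, hrJ⟩, rfl⟩
    have hf := hu _ (C.G.UR_le_U ((Subgroup.mem_normalizer_iff.1 hN _).1 hxU))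
      (mul_mem (mul_mem hh (O.xu_mem (map_one σ))) (inv_mem hh))
    rw [map_mul, map_mul, map_inv, C.G.fmap_xu, map_one] at hf
    calc C.G.xu r 1 * (h⁻¹ * fmap D σ h)
        = h⁻¹ * (h * C.G.xu r 1 * h⁻¹) * fmap D σ h := by group
      _ = _ := by rw [← hf]; group
  obtain ⟨u, hUR, l, hl, rfl⟩ : ∃ u ∈ (UR C.G J : Subgroup (GL D.Idx K)),
      ∃ l ∈ D.diagonalSubgroup K ⊔ LJ C.G J, u * l = h := by
    have hle : D.diagonalSubgroup K ⊔ LJ C.G J ≤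
        Subgroup.normalizer ((UR C.G J : Subgroup (GL D.Idx K)) : Set (GL D.Idx K)) := by
      intro x hx
      exact C.PJ_le_normalizer ((C.UR_sup_levi hchk).le (Subgroup.mem_sup_right hx))
    rw [← C.UR_sup_levi hchk, ← SetLike.mem_coe,
      Subgroup.coe_mul_of_right_le_normalizer_left _ _ hle] at hP
    exact hP
  have hlP : l ∈ C.PJ J := (C.UR_sup_levi hchk).le (Subgroup.mem_sup_right hl)
  set c := (u * l)⁻¹ * fmap D σ (u * l)
  have hlc : l * c * l⁻¹ ∈ (UR C.G J : Subgroup (GL D.Idx K)) :=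
    (Subgroup.mem_normalizer_iff.1 (C.PJ_le_normalizer hlP) _).1 hc
  have hσl : fmap D σ l = l := by
    have e : fmap D σ l * l⁻¹ = (fmap D σ u)⁻¹ * (u * (l * c * l⁻¹)) := by
      simp only [c, map_mul]; group
    have h1 : fmap D σ l * l⁻¹ ∈ (UR C.G J : Subgroup (GL D.Idx K)) ⊓ (D.diagonalSubgroup K ⊔ LJ C.G J) :=
      Subgroup.mem_inf.2 ⟨e ▸ mul_mem (inv_mem (fmap_mem_UR C σ hUR)) (mul_mem hUR hlc),
        mul_mem (fmap_mem_levi C σ hl) (inv_mem hl)⟩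
    rw [C.UR_inf_levi hchk, Subgroup.mem_bot] at h1
    exact mul_inv_eq_one.1 h1
  obtain ⟨l₀, hl₀, t, ht, hσt, rfl⟩ := C.fixed_decomp σ (C.PJ_le_group hlP) hσl
  have hl₁ : t⁻¹ * l₀ * t ∈ Lfix C.G σ := by
    simpa using lfix_conj C σ (inv_mem ht) (by rw [map_inv, hσt]) hl₀
  have hut : u * t ∈ H := by
    have := mul_mem hh (inv_mem (O.lfix_le hl₁))
    rwa [show u * (l₀ * t) * (t⁻¹ * l₀ * t)⁻¹ = u * t by group] at this
  have hq : pClass p ∈ [2, 3, 5] := by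
    rcases pClass_cases (Fact.out : p.Prime) with e | e | e <;> simp [e]
  have htq := List.all_eq_true.1 htor _ hq
  rw [Bool.and_eq_true] at htq
  rw [map_mul, hσl, O.ut_fixed p htq.1 htq.2 hu (C.G.UR_le_U hUR) ht hσt hut]

/-- an element moving a fixed unipotent element to a fixed one is fixed -/
theorem Over.conj_fixed (O : Over C σ H) (hfin : {t : K | σ t = t}.Finite) (hchk : chkSupp D = true)
    (hpair : chkPairOut D = true) (htor : chkTor D = true) (hu : ∀ u ∈ D.posUnipotent K, u ∈ H → fmap D σ u = u)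
    {d : GL D.Idx K} (hd : d ∈ D.group K) (hσd : fmap D σ d = d) (hpd : ∃ k : ℕ, d ^ p ^ k = 1) (hd1 : d ≠ 1)
    {h : GL D.Idx K} (hh : h ∈ H) (hσ : fmap D σ (h * d * h⁻¹) = h * d * h⁻¹) : fmap D σ h = h := by
  set Q := Subgroup.zpowers d
  obtain ⟨g, hg, J, hJ, c, hUc, hle, hN⟩ :=
    C.borel_tits_of_conj Q (Subgroup.zpowers_ne_bot.2 hd1) (fixed_conj_le_U C σ hfin p hd hσd hpd)
  have hdQ : d ∈ Q := Subgroup.mem_zpowers d
  have hfix : ∀ x ∈ Q, fmap D σ x = x := by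
    rintro x ⟨m, rfl⟩
    rw [map_zpow, hσd]
  have hg' : fmap D σ g * g⁻¹ ∈ C.PJ J := by
    refine hN _ (mul_mem (C.G.fmap_mem_group σ hg) (inv_mem hg)) fun x hx => ?_
    have h1 := C.G.fmap_mem_closure σ _ (hUc x hx)
    rw [map_mul, map_mul, map_inv, hfix x hx] at h1
    rwa [show fmap D σ g * g⁻¹ * (g * x * g⁻¹) * (fmap D σ g * g⁻¹)⁻¹ = fmap D σ g * x * (fmap D σ g)⁻¹ by group]
  obtain ⟨p₀, hp₀, g₀, hg₀, hσg₀, rfl⟩ := exists_fixed_rep C σ hchk hg hg'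
  -- the centralizer of `d` goes into the parabolic subgroup
  set z := h⁻¹ * fmap D σ h
  have hz : z ∈ D.group K := mul_mem (inv_mem (O.le hh)) (C.G.fmap_mem_group σ (O.le hh))
  have hzd : z * d * z⁻¹ = d := by
    rw [map_mul, map_mul, map_inv, hσd] at hσ
    calc z * d * z⁻¹ = h⁻¹ * (fmap D σ h * d * (fmap D σ h)⁻¹) * h := by simp only [z]; group
      _ = d := by rw [hσ]; group
  have hzP : g₀ * z * g₀⁻¹ ∈ C.PJ J := by
    have h1 := hN (p₀ * g₀ * z * (p₀ * g₀)⁻¹) (mul_mem (mul_mem hg hz) (inv_mem hg)) fun x hx => by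
      obtain ⟨m, rfl⟩ := hx
      rw [show p₀ * g₀ * z * (p₀ * g₀)⁻¹ * (p₀ * g₀ * d ^ m * (p₀ * g₀)⁻¹) * (p₀ * g₀ * z * (p₀ * g₀)⁻¹)⁻¹ =
        p₀ * g₀ * (z * d ^ m * z⁻¹) * (p₀ * g₀)⁻¹ by group, ← conj_zpow, hzd]
      exact hUc _ ⟨m, rfl⟩
    have h2 := mul_mem (mul_mem (inv_mem hp₀) h1) hp₀
    rwa [show p₀⁻¹ * (p₀ * g₀ * z * (p₀ * g₀)⁻¹) * p₀ = g₀ * z * g₀⁻¹ by group] at h2
  have hk : fmap D σ (g₀ * h⁻¹) * (g₀ * h⁻¹)⁻¹ ∈ C.PJ J := by
    have e : fmap D σ (g₀ * h⁻¹) * (g₀ * h⁻¹)⁻¹ = (g₀ * z * g₀⁻¹)⁻¹ := by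
      simp only [z, map_mul, map_inv, hσg₀]; group
    exact e ▸ inv_mem hzP
  obtain ⟨p₁, hp₁, g₁, hg₁, hσg₁, e⟩ :=
    exists_fixed_rep C σ hchk (mul_mem hg₀ (inv_mem (O.le hh))) hk
  obtain ⟨l₀, hl₀, a₀, ha₀, hσa₀, e₀⟩ := C.fixed_decomp σ hg₀ hσg₀
  obtain ⟨l₁, hl₁, a₁, ha₁, hσa₁, e₁⟩ := C.fixed_decomp σ hg₁ hσg₁
  have hm₀ : a₀⁻¹ * l₀ * a₀ ∈ H :=
    O.lfix_le (by simpa using lfix_conj C σ (inv_mem ha₀) (by rw [map_inv, hσa₀]) hl₀)
  have hm₁ : a₁⁻¹ * l₁ * a₁ ∈ H :=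
    O.lfix_le (by simpa using lfix_conj C σ (inv_mem ha₁) (by rw [map_inv, hσa₁]) hl₁)
  have hdP : ∀ {x : GL D.Idx K}, x ∈ D.diagonalSubgroup K → x ∈ C.PJ J := fun hx =>
    C.borel_le_PJ J (Subgroup.mem_sup_right hx)
  have hqH : a₀⁻¹ * p₁ * a₁ ∈ H := by
    rw [show p₁ = g₀ * h⁻¹ * g₁⁻¹ by rw [e, mul_inv_cancel_right],
      show a₀⁻¹ * (g₀ * h⁻¹ * g₁⁻¹) * a₁ = (a₀⁻¹ * l₀ * a₀) * h⁻¹ * (a₁⁻¹ * l₁ * a₁)⁻¹ by rw [e₀, e₁]; group]
    exact mul_mem (mul_mem hm₀ (inv_mem hh)) (inv_mem hm₁)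
  have hσp : fmap D σ p₁ = p₁ := by
    have := O.parab_fixed p hchk hpair htor hu hJ hqH (mul_mem (mul_mem (inv_mem (hdP ha₀)) hp₁) (hdP ha₁))
    rw [map_mul, map_mul, map_inv, hσa₀, hσa₁, mul_left_inj, mul_right_inj] at this
    exact this
  rw [show h = (g₁⁻¹ * p₁⁻¹) * g₀ by
    calc h = (g₀ * h⁻¹)⁻¹ * g₀ := by group
      _ = _ := by rw [e]; group]
  rw [map_mul, map_mul, map_inv, map_inv, hσg₀, hσg₁, hσp]

end CfsgLib.Lie.Chev.Sub
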