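import Cfsg.Agent.Lib.Lie.Chev.Sub.Embedded
import Mathlib.Algebra.Field.Subfield.Basic

/-!
# The parameters of the root elements in a finite overgroup
-/

set_option autoImplicit false
set_option linter.unusedSectionVars false

namespace CfsgLib.Lie.Chev.Sub

open Cfsg.Lie
open scoped MatrixGroups

/-- a pair of roots of given classes with a commutator led by a given coefficient, the others vanishing -/
def chkMul (D : ChevalleyDatum) (L : ℕ → Bool) (la lb lq : Bool) (n pc : ℕ) : Bool :=
  (List.range D.nroots).any fun a => (List.range D.nroots).any fun b =>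
    L a == la && L b == lb && a != b && b != D.neg a &&
      (match D.commTerms a b with
        | (q, c, 1, 1) :: rest => L q == lq && c.natAbs == n &&
            rest.all (fun e => !(nzB pc e.2.1) && decide (e.2.1.natAbs ≤ 3))
        | _ => false)

/-- a pair of roots of given classes with a given Cartan number -/
def chkPairing (D : ChevalleyDatum) (L : ℕ → Bool) (la lb : Bool) (n : ℕ) : Bool :=
  (List.range D.nroots).any fun a => (List.range D.nroots).any fun b =>
    L a == la && L b == lb && (pairB D a b).natAbs == n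

/-- the simple roots reached from `i` by products of two reflections -/
def reachS (D : ChevalleyDatum) (i : ℕ) : ℕ → List ℕ
  | 0 => [i]
  | k + 1 => (List.range D.rank).filter fun j => (reachS D i k).contains j ||
      (reachS D i k).any fun m => D.reflectRoot m (D.reflectRoot j (D.simple m)) == D.simple j

/-- simple roots of a class are joined -/
def chkClass (D : ChevalleyDatum) (L : ℕ → Bool) : Bool :=
  (List.range D.rank).all fun i => (List.range D.rank).all fun j =>
    L (D.simple i) != L (D.simple j) || (reachS D i D.rank).contains j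

variable {D : ChevalleyDatum} {K : Type*} [Field K] {C : Full D} {σ : K →+* K}
  {M : Subgroup (GL D.Idx K)}

/-- the parameters at a root -/
def param (C : Full D) (M : Subgroup (GL D.Idx K)) (r : Fin D.nroots) : AddSubgroup K where
  carrier := {t | C.G.xu r t ∈ M}
  zero_mem' := by show C.G.xu r 0 ∈ M; rw [C.G.xu_zero]; exact one_mem M
  add_mem' := fun {a b} ha hb => by show C.G.xu r (a + b) ∈ M; rw [C.G.xu_add]; exact mul_mem ha hb
  neg_mem' := fun {a} ha => by show C.G.xu r (-a) ∈ M; rw [← C.G.xu_inv]; exact inv_mem ha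

theorem mem_param {r : Fin D.nroots} {t : K} : t ∈ param C M r ↔ C.G.xu r t ∈ M := Iff.rfl

theorem param_finite [Finite ↥M] (r : Fin D.nroots) : ((param C M r : AddSubgroup K) : Set K).Finite := by
  refine Set.finite_coe_iff.1 (Finite.of_injective (fun t : ↥(param C M r) => (⟨C.G.xu r t.1, t.2⟩ : ↥M)) ?_)
  intro a b h
  exact Subtype.ext (C.G.xu_injective r (congrArg Subtype.val h))

/-- scaling by an integer prime to the characteristic -/
theorem mem_of_cast_mul (p : ℕ) [Fact p.Prime] [CharP K p] {A : AddSubgroup K} {c : ℤ} (hc : (c : K) ≠ 0) {x : K}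
    (h : (c : K) * x ∈ A) : x ∈ A := by
  have hz : (c : ZMod p) ≠ 0 := fun h0 =>
    hc ((CharP.intCast_eq_zero_iff K p c).2 ((ZMod.intCast_zmod_eq_zero_iff_dvd c p).1 h0))
  obtain ⟨m, hm⟩ := ZMod.intCast_surjective ((c : ZMod p)⁻¹)
  have e : ((m * c : ℤ) : K) = 1 := by
    have h1 : ((m * c : ℤ) : ZMod p) = ((1 : ℤ) : ZMod p) := by
      rw [Int.cast_mul, hm, inv_mul_cancel₀ hz, Int.cast_one]
    rw [ZMod.intCast_eq_intCast_iff] at h1
    simpa using (CharP.intCast_eq_intCast K p).2 h1
  have h2 := zsmul_mem h m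
  rwa [zsmul_eq_mul, ← mul_assoc, ← Int.cast_mul, e, one_mul] at h2

variable (O : Over C σ M)
include O

theorem Over.param_one (r : Fin D.nroots) : (1 : K) ∈ param C M r := O.xu_mem (map_one σ)

theorem Over.param_w (i : Fin D.rank) (r : Fin D.nroots) : param C M (C.G.w i r) = param C M r := by
  have h : ∀ s, param C M s ≤ param C M (C.G.w i s) := by
    intro s t ht
    have h1 := O.xu_w_mem (i := i) ht
    rcases C.G.eta_unit i s with e | e
    · simpa [e, mem_param] using h1
    · have h2 := inv_mem h1
      simpa [e, mem_param, C.G.xu_inv] using h2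
  refine le_antisymm ?_ (h r)
  have := h (C.G.w i r)
  rwa [C.G.w_w] at this

theorem Over.param_negr_simp (i : Fin D.rank) : param C M (C.G.negr (C.G.simp' i)) = param C M (C.G.simp' i) := by
  rw [← C.G.w_simp, O.param_w]

theorem Over.param_negr (r : Fin D.nroots) : param C M (C.G.negr r) = param C M r := by
  refine C.G.orbit (fun r => param C M (C.G.negr r) = param C M r) (fun i _ => O.param_negr_simp i)
    (fun i r h => ?_) r
  rw [← C.G.w_negr, O.param_w, O.param_w, h]

/-- roots of the same class have the same parameters -/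
theorem Over.param_class {L : ℕ → Bool} (hcl : ∀ (i : Fin D.rank) (r : Fin D.nroots), L r.val = true → L (C.G.w i r).val = true)
    (hchk : chkClass D L = true) {r s : Fin D.nroots} (h : L r.val = L s.val) : param C M r = param C M s := by
  have hw : ∀ (i : Fin D.rank) (r : Fin D.nroots), L (C.G.w i r).val = L r.val := fun i r => by
    rw [Bool.eq_iff_iff]
    exact ⟨fun h => by simpa [C.G.w_w] using hcl i _ h, hcl i r⟩
  have hrep : ∀ r : Fin D.nroots, ∃ i : Fin D.rank, L (C.G.simp' i).val = L r.val ∧
      param C M r = param C M (C.G.simp' i) := by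
    intro r
    refine C.G.orbit (fun r => ∃ i : Fin D.rank, L (C.G.simp' i).val = L r.val ∧
      param C M r = param C M (C.G.simp' i)) (fun i _ => ⟨i, rfl, rfl⟩) (fun i r => ?_) r
    rintro ⟨j, hj, e⟩
    exact ⟨j, hj.trans (hw i r).symm, (O.param_w i r).trans e⟩
  have hsimp : ∀ i j : Fin D.rank, L (C.G.simp' i).val = L (C.G.simp' j).val →
      param C M (C.G.simp' i) = param C M (C.G.simp' j) := by
    intro i j hij
    simp only [chkClass, List.all_eq_true, List.mem_range, Bool.or_eq_true, bne_iff_ne, ne_eq] at hchk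
    have hj := (hchk i.val i.isLt j.val j.isLt).resolve_left (by rw [← C.G.simp_val, ← C.G.simp_val]; exact not_not.2 hij)
    rw [List.contains_iff_mem] at hj
    suffices key : ∀ k, ∀ m : Fin D.rank, m.val ∈ reachS D i.val k →
        param C M (C.G.simp' i) = param C M (C.G.simp' m) from key _ j hj
    intro k
    induction k with
    | zero => intro m hm; rw [reachS, List.mem_singleton] at hm; rw [Fin.ext hm]
    | succ k ih =>
      intro m hm
      simp only [reachS, List.mem_filter, List.mem_range, Bool.or_eq_true, List.contains_iff_mem, List.any_eq_true,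
        beq_iff_eq] at hm
      rcases hm.2 with h | ⟨n', hn', e⟩
      · exact ih m h
      · have hn : n' < D.rank := by
          clear e ih
          cases k with
          | zero => rw [reachS, List.mem_singleton] at hn'; exact hn' ▸ i.isLt
          | succ k => simp only [reachS, List.mem_filter, List.mem_range] at hn'; exact hn'.1
        rw [ih ⟨n', hn⟩ hn']
        have e' : C.G.w ⟨n', hn⟩ (C.G.w m (C.G.simp' ⟨n', hn⟩)) = C.G.simp' m := by
          refine Fin.ext ?_
          simp only [C.G.w_reflect, C.G.simp_val]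
          exact e
        rw [← e', O.param_w, O.param_w]
  obtain ⟨i, hi, ei⟩ := hrep r
  obtain ⟨j, hj, ej⟩ := hrep s
  rw [ei, ej, hsimp i j (by rw [hi, hj, h])]

/-- the leading term of a commutator -/
theorem Over.mul_mem_param (p : ℕ) [Fact p.Prime] [CharP K p] {L : ℕ → Bool}
    (hcl : ∀ (i : Fin D.rank) (r : Fin D.nroots), L r.val = true → L (C.G.w i r).val = true)
    (hclass : chkClass D L = true) {la lb lq : Bool} {n : ℕ} (h : chkMul D L la lb lq n (pClass p) = true)
    {ra rb rq : Fin D.nroots} (hla : L ra.val = la) (hlb : L rb.val = lb) (hlq : L rq.val = lq)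
    (hn : ∀ c : ℤ, c.natAbs = n → (c : K) ≠ 0) {t u : K} (ht : t ∈ param C M ra) (hu : u ∈ param C M rb) :
    t * u ∈ param C M rq := by
  simp only [chkMul, List.any_eq_true, List.mem_range, Bool.and_eq_true, beq_iff_eq, bne_iff_ne, ne_eq] at h
  obtain ⟨a', ha', b', hb', ⟨⟨⟨hLa, hLb⟩, hab⟩, habn⟩, hterm⟩ := h
  let a : Fin D.nroots := ⟨a', ha'⟩
  let b : Fin D.nroots := ⟨b', hb'⟩
  obtain ⟨q', c, rest, he⟩ : ∃ (q : ℕ) (c : ℤ) (rest : List (ℕ × ℤ × ℕ × ℕ)),
      D.commTerms a' b' = (q, c, 1, 1) :: rest := by
    revert hterm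
    split
    · intro _; exact ⟨_, _, _, by assumption⟩
    · intro h; exact absurd h (by simp)
  rw [he] at hterm
  simp only [Bool.and_eq_true, beq_iff_eq, List.all_eq_true, Bool.not_eq_true', decide_eq_true_eq] at hterm
  obtain ⟨⟨hLq, hc⟩, hrest⟩ := hterm
  have hq : q' < D.nroots := (C.commTerms_weight (r := a) (s := b) (c := (q', c, 1, 1)) (by simp [a, b, he])).2.2.1
  let q : Fin D.nroots := ⟨q', hq⟩
  have hba : b ≠ a := fun e => hab (congrArg Fin.val e).symm
  have hbn : b ≠ C.G.negr a := fun e => habn ((congrArg Fin.val e).trans (C.G.negr_val a))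
  rw [O.param_class hcl hclass (r := ra) (s := a) (hla.trans hLa.symm), mem_param] at ht
  rw [O.param_class hcl hclass (r := rb) (s := b) (hlb.trans hLb.symm), mem_param] at hu
  rw [O.param_class hcl hclass (r := rq) (s := q) (hlq.trans hLq.symm)]
  have hcm := C.commAt a b hba hbn t u
  unfold CommAt cwR at hcm
  rw [show D.commTerms a.val b.val = _ from he, List.map_cons, wordR_cons] at hcm
  have hrest1 : wordR K D (rest.map fun e => (e.1, (e.2.1 : K) * (-t) ^ e.2.2.1 * u ^ e.2.2.2)) = 1 := by
    rw [wordR, List.map_map]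
    refine List.prod_eq_one fun x hx => ?_
    obtain ⟨e, hm, rfl⟩ := List.mem_map.1 hx
    simp only [Function.comp_apply, xN]
    rw [cast_eq_zero_of_nzB p (hrest e hm).2 (hrest e hm).1, zero_mul, zero_mul]
    split
    · exact xg_zero K _
    · rfl
  rw [hrest1, mul_one] at hcm
  have e : C.G.xu b u * C.G.xu a t = C.G.xu a t * C.G.xu b u * C.G.xu q ((c : K) * -t * u) := by
    apply Units.ext
    simp only [Units.val_mul, Good.coe_xu, hcm, pow_one, xN, dif_pos hq, q]
  have hm : C.G.xu q ((c : K) * -t * u) ∈ M := by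
    rw [show C.G.xu q ((c : K) * -t * u) = (C.G.xu a t * C.G.xu b u)⁻¹ * (C.G.xu b u * C.G.xu a t) by
      rw [e, inv_mul_cancel_left]]
    exact mul_mem (inv_mem (mul_mem ht hu)) (mul_mem hu ht)
  have h2 := neg_mem (show (c : K) * -t * u ∈ param C M q from hm)
  rw [show -((c : K) * -t * u) = (c : K) * (t * u) by ring] at h2
  exact mem_of_cast_mul p (hn c hc) h2

/-- the torus elements of a root whose parameters form a field -/
theorem Over.pow_mem_param {L : ℕ → Bool}
    (hcl : ∀ (i : Fin D.rank) (r : Fin D.nroots), L r.val = true → L (C.G.w i r).val = true)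
    (hclass : chkClass D L = true) {la lb : Bool} {n : ℕ} (h : chkPairing D L la lb n = true)
    {ra rb : Fin D.nroots} (hla : L ra.val = la) (hlb : L rb.val = lb)
    (hinv : ∀ x ∈ param C M ra, x⁻¹ ∈ param C M ra) {t : K} (ht : t ∈ param C M ra) : t ^ n ∈ param C M rb ∨ t = 0 := by
  by_cases h0 : t = 0
  · exact Or.inr h0
  left
  simp only [chkPairing, List.any_eq_true, List.mem_range, Bool.and_eq_true, beq_iff_eq] at h
  obtain ⟨a', ha', b', hb', ⟨hLa, hLb⟩, hn⟩ := h
  let a : Fin D.nroots := ⟨a', ha'⟩
  let b : Fin D.nroots := ⟨b', hb'⟩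
  have ea := O.param_class hcl hclass (r := ra) (s := a) (hla.trans hLa.symm)
  rw [O.param_class hcl hclass (r := rb) (s := b) (hlb.trans hLb.symm)]
  rw [ea] at ht hinv
  have key : ∀ x : Kˣ, (x : K) ∈ param C M a → ((x ^ pairB D a' b' : Kˣ) : K) ∈ param C M b := by
    intro x hx
    have hnE : ∀ v : K, v ∈ param C M a → C.G.nE a v ∈ M := by
      intro v hv
      have hneg : -v⁻¹ ∈ param C M (C.G.negr a) := by rw [O.param_negr]; exact neg_mem (hinv v hv)
      exact mul_mem (mul_mem hv hneg) hv
    have hh : C.G.hd a x ∈ M := by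
      rw [← C.G.hE_eq]
      exact mul_mem (hnE _ hx) (hnE _ (neg_mem (O.param_one a)))
    have h1 := mul_mem (mul_mem hh (O.param_one b)) (inv_mem hh)
    rw [hd_xu_conj, mul_one] at h1
    exact h1
  rcases Int.natAbs_eq (pairB D a' b') with e | e
  · have h2 := key (Units.mk0 t h0) ht
    rw [e, hn, zpow_natCast, Units.val_pow_eq_pow_val] at h2
    exact h2
  · have h2 := key (Units.mk0 t h0)⁻¹ (by simpa using hinv t ht)
    rw [e, hn, inv_zpow', neg_neg, zpow_natCast, Units.val_pow_eq_pow_val] at h2
    exact h2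

omit O in
/-- a finite additive group with one, closed under products, is a field -/
theorem exists_subfield {A : AddSubgroup K} (hA : (A : Set K).Finite) (h1 : (1 : K) ∈ A)
    (hm : ∀ a ∈ A, ∀ b ∈ A, a * b ∈ A) : ∃ E : Subfield K, ∀ t, t ∈ E ↔ t ∈ A := by
  have hinv : ∀ x ∈ A, x⁻¹ ∈ A := by
    intro x hx
    by_cases h0 : x = 0
    · rw [h0, inv_zero]; exact zero_mem A
    have hinj : Set.InjOn (fun y => x * y) (A : Set K) := fun y _ z _ h => mul_left_cancel₀ h0 h
    have himg : (fun y => x * y) '' (A : Set K) = A := by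
      refine Set.eq_of_subset_of_ncard_le (by rintro _ ⟨y, hy, rfl⟩; exact hm x hx y hy) ?_ hA
      rw [Set.InjOn.ncard_image hinj]
    obtain ⟨y, hy, e⟩ := himg.symm ▸ (show (1 : K) ∈ (A : Set K) from h1)
    rwa [inv_eq_of_mul_eq_one_right e]
  exact ⟨{ carrier := A, mul_mem' := fun {a b} ha hb => hm a ha b hb, one_mem' := h1,
           add_mem' := fun {a b} ha hb => add_mem ha hb, zero_mem' := zero_mem A,
           neg_mem' := fun {a} ha => neg_mem ha, inv_mem' := hinv }, fun t => Iff.rfl⟩

end CfsgLib.Lie.Chev.Sub
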