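import Cfsg.Agent.Lib.Lie.Chev.Sub.Base
import Cfsg.Agent.Lib.Lie.SL2Over
import Cfsg.Agent.Lib.Lie.Chev.Gen

/-!
# An overgroup with an irrational root element is everything
-/

set_option autoImplicit false
set_option linter.unusedSectionVars false

namespace CfsgLib.Lie.Chev.Sub

open Cfsg.Lie
open scoped MatrixGroups
open CfsgLib.Lie.SL2Rel (Fam)

/-- Cartan numbers of neighbours; for a triple bond, the commutator leading from the short to the long orbit -/
def chkLink (D : ChevalleyDatum) : Bool :=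
  (List.range D.rank).all fun i => (List.range D.rank).all fun j =>
    let k := D.cartan i (D.simple j)
    i == j || k == 0 || k == -1 || k == -2 || (k == -3 &&
      (let a := D.reflectRoot j (D.simple i)
       let b := D.reflectRoot i a
       let q := D.reflectRoot j (D.reflectRoot i (D.simple j))
       a != b && (match D.commTerms a b with
        | [(x, c, 1, 1)] => x == q && c.natAbs == 3
        | _ => false)))

variable {D : ChevalleyDatum} {K : Type*} [Field K] {C : Full D} {σ : K →+* K} {H : Subgroup (GL D.Idx K)}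
  (O : Over C σ H)

include O

theorem Over.reflect_val (i : Fin D.rank) (r : Fin D.nroots) : D.reflectRoot i.val r.val = (C.G.w i r).val :=
  (C.G.w_reflect i r).symm

theorem Over.full_negr {i : Fin D.rank} (h : ∀ v, C.G.xu (C.G.simp' i) v ∈ H) :
    ∀ v, C.G.xu (C.G.negr (C.G.simp' i)) v ∈ H := by
  rw [← C.G.w_simp i]
  exact O.full_w h

theorem Over.hd_mem_of_full {i : Fin D.rank} (h : ∀ v, C.G.xu (C.G.simp' i) v ∈ H) (c : Kˣ) :
    C.G.hd (C.G.simp' i) c ∈ H := by
  rw [← C.G.hE_eq]
  have hn : ∀ t : K, C.G.nE (C.G.simp' i) t ∈ H := fun t =>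
    mul_mem (mul_mem (h t) (O.full_negr h _)) (h t)
  exact mul_mem (hn _) (hn _)

variable [Finite K] (p : ℕ) [Fact p.Prime] [CharP K p]
include p

/-- neighbours -/
theorem Over.full_step (hchk : chkLink D = true) {i j : Fin D.rank}
    (hij : i ≠ j) (hk : cart D i (C.G.simp' j) ≠ 0) (h_i : ∀ v, C.G.xu (C.G.simp' i) v ∈ H) :
    ∀ v, C.G.xu (C.G.simp' j) v ∈ H := by
  classical
  have hsc : ∀ (c : Kˣ) (t : K), C.G.xu (C.G.simp' j) t ∈ H →
      C.G.xu (C.G.simp' j) (((c ^ cart D i (C.G.simp' j) : Kˣ) : K) * t) ∈ H := fun c t ht => by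
    rw [← C.G.hd_simp_conj]
    exact mul_mem (mul_mem (O.hd_mem_of_full h_i c) ht) (inv_mem (O.hd_mem_of_full h_i c))
  have h1 : C.G.xu (C.G.simp' j) (1 : K) ∈ H := O.xu_mem (map_one σ)
  have h := List.all_eq_true.1 hchk i.val (List.mem_range.2 i.isLt) |> fun h' =>
    List.all_eq_true.1 h' j.val (List.mem_range.2 j.isLt)
  simp only [Bool.or_eq_true, beq_iff_eq, Bool.and_eq_true] at h
  have hcart : D.cartan i.val (D.simple j.val) = cart D i (C.G.simp' j) := by rw [cart, C.G.simp_val]
  rw [hcart] at h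
  rcases h with (((he | h0) | hm1) | hm2) | ⟨hm3, htrip⟩
  · exact absurd (Fin.ext he) hij
  · exact absurd h0 hk
  · intro v
    by_cases hv : v = 0
    · rw [hv, C.G.xu_zero]; exact one_mem _
    have := hsc (Units.mk0 v hv)⁻¹ 1 h1
    rwa [hm1, zpow_neg_one, inv_inv, Units.val_mk0, mul_one] at this
  · intro v
    haveI := Fintype.ofFinite K
    obtain ⟨x, y, rfl⟩ := WCl.exists_sq_add_sq v
    rw [C.G.xu_add]
    have : ∀ x : K, C.G.xu (C.G.simp' j) (x ^ 2) ∈ H := fun x => by
      by_cases hx : x = 0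
      · rw [hx, zero_pow two_ne_zero, C.G.xu_zero]; exact one_mem _
      have := hsc (Units.mk0 x hx)⁻¹ 1 h1
      rw [hm2, zpow_neg, inv_zpow, inv_inv, mul_one] at this
      simpa [zpow_two, pow_two] using this
    exact mul_mem (this x) (this y)
  · by_cases hp3 : p = 3
    · subst hp3
      intro v
      obtain ⟨x, rfl⟩ := (frobeniusEquiv K 3).surjective v
      rw [frobeniusEquiv_apply, frobenius_def]
      by_cases hx : x = 0
      · rw [hx, zero_pow three_ne_zero, C.G.xu_zero]; exact one_mem _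
      have := hsc (Units.mk0 x hx)⁻¹ 1 h1
      rw [hm3, zpow_neg, inv_zpow, inv_inv, mul_one] at this
      simpa [zpow_ofNat] using this
    obtain ⟨hne, htrip⟩ := htrip
    set a := C.G.w j (C.G.simp' i) with ha
    set b := C.G.w i a with hb
    set q := C.G.w j (C.G.w i (C.G.simp' j)) with hq
    have ea : D.reflectRoot j.val (D.simple i.val) = a.val := by rw [← C.G.simp_val, O.reflect_val]
    have eb : D.reflectRoot i.val a.val = b.val := O.reflect_val i a
    have eq' : D.reflectRoot j.val (D.reflectRoot i.val (D.simple j.val)) = q.val := by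
      rw [← C.G.simp_val, O.reflect_val, O.reflect_val]
    simp only [ea, eb, eq'] at hne htrip
    obtain ⟨x, c, hterm⟩ : ∃ (x : ℕ) (c : ℤ), D.commTerms a.val b.val = [(x, c, 1, 1)] := by
      revert htrip
      split
      · intro _; exact ⟨_, _, by assumption⟩
      · intro h; exact absurd h (by simp)
    rw [hterm] at htrip
    simp only [Bool.and_eq_true, beq_iff_eq] at htrip
    obtain ⟨rfl, hc⟩ := htrip
    have hab : b ≠ a := fun e => by simp [e] at hne
    have habn : b ≠ C.G.negr a := by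
      intro e
      have hh : C.G.rho b = C.G.rho (C.G.negr a) := congrArg C.G.rho e
      have hw := (C.commTerms_weight (r := a) (s := b) (c := (q.val, c, 1, 1)) (by simp [hterm])).2.2.2
      have h0 : C.G.rho q = 0 := by
        rw [show (⟨q.val, _⟩ : Fin D.nroots) = q from rfl] at hw
        rw [hw, hh, C.G.rho_negr]; simp
      exact C.G.rho_ne_zero q h0
    have hA : ∀ v, C.G.xu a v ∈ H := O.full_w h_i
    have hB : ∀ v, C.G.xu b v ∈ H := O.full_w hA
    have hc0 : (c : K) ≠ 0 := fun h0 => by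
      have hdvd : p ∣ c.natAbs := Int.natCast_dvd.1 ((CharP.intCast_eq_zero_iff K p c).1 h0)
      rw [hc] at hdvd
      exact hp3 ((Nat.prime_dvd_prime_iff_eq Fact.out Nat.prime_three).1 hdvd)
    have hQ : ∀ v, C.G.xu q v ∈ H := by
      intro v
      have hcm := C.commAt a b hab habn (-(v / c)) (1 : K)
      have e : (C.G.xu a (-(v / c)))⁻¹ * C.G.xu b 1 * C.G.xu a (-(v / c)) = C.G.xu b 1 * C.G.xu q v := by
        rw [mul_assoc, inv_mul_eq_iff_eq_mul]
        apply Units.ext
        unfold CommAt at hcm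
        rw [cwR, hterm] at hcm
        simp only [Units.val_mul, Good.coe_xu, hcm, List.map_cons, List.map_nil, wordR_cons, wordR_nil, mul_one,
          xN, dif_pos q.isLt, neg_neg, pow_one, one_pow, mul_div_cancel₀ v hc0, mul_assoc]
      have := mul_mem (inv_mem (hB 1)) (mul_mem (mul_mem (inv_mem (hA (-(v / c)))) (hB 1)) (hA (-(v / c))))
      rwa [e, inv_mul_cancel_left] at this
    have h3 : ∀ v, C.G.xu (C.G.w i (C.G.w j q)) v ∈ H := O.full_w (O.full_w hQ)
    rwa [hq, C.G.w_w, C.G.w_w] at h3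

/-- all root subgroups from one -/
theorem Over.top_of_full (hchk : chkLink D = true) (hcon : DiagramConnected D) {r : Fin D.nroots}
    (h : ∀ v, C.G.xu r v ∈ H) : H = D.group K := by
  classical
  obtain ⟨i, hi⟩ : ∃ i, ∀ v, C.G.xu (C.G.simp' i) v ∈ H := by
    refine C.G.orbit (fun r => (∀ v, C.G.xu r v ∈ H) → ∃ i, ∀ v, C.G.xu (C.G.simp' i) v ∈ H)
      (fun i _ h => ⟨i, h⟩) (fun i r hr h => hr ?_) r h
    have := O.full_w (i := i) h
    rwa [C.G.w_w] at this
  set J := Finset.univ.filter fun i => ∀ v, C.G.xu (C.G.simp' i) v ∈ H with hJ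
  have hJu : J = Finset.univ := by
    by_contra hne
    obtain ⟨a, ha, b, hb, hab, -⟩ := hcon J (Finset.mem_powerset.2 (Finset.subset_univ J))
      ⟨i, Finset.mem_filter.2 ⟨Finset.mem_univ _, hi⟩⟩ hne
    refine hb (Finset.mem_filter.2 ⟨Finset.mem_univ _, ?_⟩)
    rw [C.G.cmat_eq] at hab
    exact O.full_step p hchk (fun e => hb (e ▸ ha)) hab (Finset.mem_filter.1 ha).2
  refine le_antisymm O.le ?_
  rw [C.G.group_eq_simple, Subgroup.closure_le]
  rintro g ⟨j, t, rfl | rfl⟩
  · exact (Finset.mem_filter.1 (hJu ▸ Finset.mem_univ j : j ∈ J)).2 t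
  · exact O.full_negr (Finset.mem_filter.1 (hJu ▸ Finset.mem_univ j : j ∈ J)).2 t

/-- one irrational root element is enough -/
theorem Over.top_of_irrational (hchk : chkLink D = true) (hcon : DiagramConnected D)
    (hmax : ∀ E : Subfield K, σ.eqLocusField (RingHom.id K) ≤ E → E = σ.eqLocusField (RingHom.id K) ∨ E = ⊤)
    {r : Fin D.nroots} {t : K} (ht : σ t ≠ t) (h : C.G.xu r t ∈ H) : H = D.group K := by
  refine O.top_of_full p hchk hcon (r := r) fun v => ?_
  let φ := (C.G.sl2Fam (K := K) r).hom (C.G.sl2Fam_mult r)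
  have hu : ∀ a, φ (Fam.upper a) = C.G.xu r a := fun a => Fam.hom_upper _ (C.G.sl2Fam_mult r) a
  have hl : ∀ a, φ (Fam.lower a) = C.G.xu (C.G.negr r) a := fun a => Fam.hom_lower _ (C.G.sl2Fam_mult r) a
  have := CfsgLib.Lie.SL2Over.upper_mem p hmax (H := H.comap φ)
    (fun a ha => by rw [Subgroup.mem_comap, hu]; exact O.xu_mem ha)
    (fun a ha => by rw [Subgroup.mem_comap, hl]; exact O.xu_mem ha)
    (t := t) (fun hm => ht hm) (by rw [Subgroup.mem_comap, hu]; exact h) v
  rwa [Subgroup.mem_comap, hu] at this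

end CfsgLib.Lie.Chev.Sub
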