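import Cfsg.Agent.Lib.Lie.Chev.Sub.Base

/-!
# The unipotent elements of an overgroup of a subfield subgroup
-/

set_option autoImplicit false
set_option linter.unusedSectionVars false

namespace CfsgLib.Lie.Chev.Sub

open Cfsg.Lie
open scoped MatrixGroups

/-- the root `m` has a commutator with leading coefficient prime to the characteristic -/
def leadB (D : ChevalleyDatum) (q m : ℕ) : Bool :=
  D.posRoots.any fun s => s != m && (D.chainRoot m s 1).isSome && nzB q (D.chainM m s 1)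

/-- the root subgroup of `m` is central in the unipotent group -/
def centB (D : ChevalleyDatum) (q m : ℕ) : Bool :=
  D.posRoots.all fun s => s == m || (D.commTerms m s).all fun c => !(nzB q c.2.1) && decide (c.2.1.natAbs ≤ 3)

/-- the roots without leading commutator -/
def termsB (D : ChevalleyDatum) (q : ℕ) : List ℕ := D.posRoots.filter fun m => !(leadB D q m)

/-- they are central -/
def chkTerms (D : ChevalleyDatum) (q : ℕ) : Bool := (termsB D q).all fun m => centB D q m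

variable {D : ChevalleyDatum} {K : Type*} [Field K] {C : Full D} {σ : K →+* K}

theorem mem_posRoots {r : ℕ} : r ∈ D.posRoots ↔ r < D.nroots ∧ D.IsPosRoot r := by
  simp [ChevalleyDatum.posRoots]

/-- the subgroup generated by the root groups of the terminal roots -/
noncomputable def Zt (C : Full D) (K : Type*) [Field K] (q : ℕ) : Subgroup (GL D.Idx K) :=
  Subgroup.closure {g | ∃ (r : Fin D.nroots) (t : K), r.val ∈ termsB D q ∧ g = C.G.xu r t}

variable (C) in
/-- commutators with higher elements -/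
theorem comm_high {m q : ℕ} {s : Fin D.nroots} (hs : D.IsPosRoot s.val) (u : K)
    (hq : ∀ r : Fin D.nroots, m ≤ r.val → D.IsPosRoot r.val → ∀ x : Fin D.nroots,
      C.G.ht (C.G.rho r) + C.G.ht (C.G.rho s) ≤ C.G.ht (C.G.rho x) → q ≤ x.val)
    {v : GL D.Idx K} (hv : v ∈ C.G.Uge (K := K) m) :
    (C.G.xu s u)⁻¹ * v⁻¹ * C.G.xu s u * v ∈ C.G.Uge (K := K) q := by
  have hm0 : C.G.Uge (K := K) m ≤ C.G.Uge 0 := C.G.Uge_mono (Nat.zero_le _)
  have hn : ∀ {a : GL D.Idx K}, a ∈ C.G.Uge (K := K) 0 → ∀ {b : GL D.Idx K}, b ∈ C.G.Uge (K := K) q →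
      a * b * a⁻¹ ∈ C.G.Uge (K := K) q := fun ha b hb =>
    (Subgroup.mem_normalizer_iff.1 (C.Uge_normal ha) b).1 hb
  set y := C.G.xu s u with hy
  induction hv using Subgroup.closure_induction with
  | one => simp
  | mul a b ha hb iha ihb =>
    rw [show y⁻¹ * (a * b)⁻¹ * y * (a * b) = (y⁻¹ * b⁻¹ * y * b) * (b⁻¹ * (y⁻¹ * a⁻¹ * y * a) * b⁻¹⁻¹) by group]
    exact mul_mem ihb (hn (inv_mem (hm0 hb)) iha)
  | inv a ha iha =>
    rw [show y⁻¹ * a⁻¹⁻¹ * y * a⁻¹ = a * (y⁻¹ * a⁻¹ * y * a)⁻¹ * a⁻¹ by group]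
    exact hn (hm0 ha) (inv_mem iha)
  | mem x hx =>
    obtain ⟨r, t, hmr, hr, rfl⟩ := hx
    by_cases e : s = r
    · rw [hy, e, C.G.xu_inv, C.G.xu_inv, ← C.G.xu_add, ← C.G.xu_add, ← C.G.xu_add,
        show -u + -t + u + t = 0 by ring, C.G.xu_zero]
      exact one_mem _
    · obtain ⟨l, hl, el⟩ := C.conj_xu r s e (C.pos_ne_negr hr hs) t u
      rw [show y⁻¹ * (C.G.xu r t)⁻¹ * y * C.G.xu r t = y⁻¹ * ((C.G.xu r t)⁻¹ * y * C.G.xu r t) by group, el,
        inv_mul_cancel_left]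
      refine list_prod_mem fun x hx => ?_
      obtain ⟨p, hp, rfl⟩ := List.mem_map.1 hx
      obtain ⟨i, j, hi, hj, hw⟩ := hl p hp
      refine C.G.xu_mem_Uge (hq r hmr hr p.1 ?_) (C.rho_combo_index hr hs hi hj hw).1 _
      rw [hw, Good.ht_add, Good.ht_smul, Good.ht_smul]
      have h1 := (C.G.isPosRoot_iff r).1 hr
      have h2 := (C.G.isPosRoot_iff s).1 hs
      have h3 : (1 : ℤ) ≤ i := by exact_mod_cast hi
      have h4 : (1 : ℤ) ≤ j := by exact_mod_cast hj
      nlinarith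

variable (p : ℕ) [Fact p.Prime] [CharP K p]

variable (C) in
/-- the leading commutator -/
theorem exists_lead_comm {k : Fin D.nroots} (hk : D.IsPosRoot k.val) (h : leadB D (pClass p) k.val = true) :
    ∃ (s q : Fin D.nroots) (c : ℤ), D.IsPosRoot s.val ∧ D.IsPosRoot q.val ∧ k.val < q.val ∧ (c : K) ≠ 0 ∧
      ∀ (t : K) (v : GL D.Idx K), v ∈ C.G.Uge (K := K) (k.val + 1) →
        ∃ w ∈ C.G.Uge (K := K) (q.val + 1),
          (C.G.xu s 1)⁻¹ * (C.G.xu k t * v)⁻¹ * C.G.xu s 1 * (C.G.xu k t * v) = C.G.xu q ((c : K) * -t) * w := by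
  classical
  simp only [leadB, List.any_eq_true, Bool.and_eq_true, bne_iff_ne, ne_eq] at h
  obtain ⟨s', hs', ⟨hne, h1⟩, hnz⟩ := h
  obtain ⟨hsl, hsp⟩ := mem_posRoots.1 hs'
  let s : Fin D.nroots := ⟨s', hsl⟩
  have hsk : s ≠ k := fun e => hne (congrArg Fin.val e)
  obtain ⟨x, hx⟩ := Option.isSome_iff_exists.1 h1
  obtain ⟨hx', ex⟩ := C.chainRoot_spec (r := k) (s := s) le_rfl hx
  have ex' : C.G.rho ⟨x, hx'⟩ = C.G.rho k + C.G.rho s := ex.trans (by push_cast; module)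
  obtain ⟨hxp, hkx, -⟩ := C.rho_combo_index (i := 1) (j := 1) hk hsp le_rfl le_rfl (by simpa using ex')
  refine ⟨s, ⟨x, hx'⟩, D.chainM k.val s' 1, hsp, hxp, hkx, cast_ne_zero_of_nzB p hnz, fun t v hv => ?_⟩
  have hq0 := C.G.xu_mem_Uge (K := K) (r := ⟨x, hx'⟩) le_rfl hxp
  obtain ⟨rest, hcomm, hrest⟩ : ∃ rest : List (ℕ × ℤ × ℕ × ℕ),
      D.commTerms k.val s' = (x, D.chainM k.val s' 1, 1, 1) :: rest ∧
      ∀ c ∈ rest, ¬ (c.2.2.1 = 1 ∧ c.2.2.2 = 1) := by
    simp only [ChevalleyDatum.commTerms]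
    refine ⟨_, List.filterMap_cons_some (by rw [hx]; rfl), fun c hc => ?_⟩
    simp only [List.mem_filterMap] at hc
    obtain ⟨d, hd, e⟩ := hc
    obtain ⟨k, -, rfl⟩ := Option.map_eq_some_iff.1 e
    simp only [List.mem_cons, List.not_mem_nil, or_false] at hd
    rcases hd with rfl | rfl | rfl | rfl | rfl | rfl <;> simp
  have hw : ∀ c ∈ rest, c ∈ D.commTerms k.val s' := fun c hc => by rw [hcomm]; exact List.mem_cons_of_mem _ hc
  let R : List (Fin D.nroots × K) := rest.pmap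
    (fun c hc => ((⟨c.1, hc⟩ : Fin D.nroots), (c.2.1 : K) * (-t) ^ c.2.2.1 * (1 : K) ^ c.2.2.2))
    (fun c hc => (C.commTerms_weight (r := k) (s := s) (hw c hc)).2.2.1)
  have hA : (C.G.xu s 1)⁻¹ * (C.G.xu k t)⁻¹ * C.G.xu s 1 * C.G.xu k t =
      C.G.xu ⟨x, hx'⟩ ((D.chainM k.val s' 1 : K) * -t) * (R.map fun p => C.G.xu p.1 p.2).prod := by
    have hcm := C.commAt k s hsk (C.pos_ne_negr hk hsp) t (1 : K)
    unfold CommAt cwR at hcm
    rw [show D.commTerms k.val s.val = _ from hcomm, List.map_cons, wordR_cons] at hcm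
    have e : C.G.xu s 1 * C.G.xu k t = C.G.xu k t * (C.G.xu s 1 *
        (C.G.xu ⟨x, hx'⟩ ((D.chainM k.val s' 1 : K) * -t) * (R.map fun p => C.G.xu p.1 p.2).prod)) := by
      apply Units.ext
      simp only [Units.val_mul, Good.coe_xu, hcm, ← mul_assoc]
      congr 1
      · congr 1
        simp only [xN, dif_pos hx', pow_one, mul_one]
      · rw [← Units.coeHom_apply, map_list_prod, wordR, List.map_map, List.map_map, List.map_pmap]
        congr 1
        refine List.ext_getElem (by simp) fun i h1 h2 => ?_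
        simp only [List.getElem_map, List.getElem_pmap, Function.comp_apply, Units.coeHom_apply,
          Good.coe_xu, xN]
        rw [dif_pos]
        exact (C.commTerms_weight (r := k) (s := s) (hw _ (List.getElem_mem _))).2.2.1
    calc (C.G.xu s 1)⁻¹ * (C.G.xu k t)⁻¹ * C.G.xu s 1 * C.G.xu k t
        = (C.G.xu s 1)⁻¹ * (C.G.xu k t)⁻¹ * (C.G.xu s 1 * C.G.xu k t) := by group
      _ = _ := by rw [e]; group
  have hR : (R.map fun p => C.G.xu p.1 p.2).prod ∈ C.G.Uge (K := K) (x + 1) := by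
    refine list_prod_mem fun y hy => ?_
    obtain ⟨p, hp, rfl⟩ := List.mem_map.1 hy
    obtain ⟨c, hc, rfl⟩ := List.mem_pmap.1 hp
    obtain ⟨h3, h4, h5, h6⟩ := C.commTerms_weight (r := k) (s := s) (hw c hc)
    refine C.G.xu_mem_Uge ?_ (C.rho_combo_index hk hsp h3 h4 h6).1 _
    refine C.G.index_lt_of_ht_lt (r := ⟨x, hx'⟩) ?_
    have hij := hrest c hc
    rw [h6, ex', Good.ht_add, Good.ht_add, Good.ht_smul, Good.ht_smul]
    have h7 := (C.G.isPosRoot_iff k).1 hk
    have h8 := (C.G.isPosRoot_iff s).1 hsp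
    rcases (show 2 ≤ c.2.2.1 ∨ 2 ≤ c.2.2.2 by omega) with h9 | h9
    · have : (2 : ℤ) ≤ c.2.2.1 := by exact_mod_cast h9
      have : (1 : ℤ) ≤ c.2.2.2 := by exact_mod_cast h4
      nlinarith
    · have : (1 : ℤ) ≤ c.2.2.1 := by exact_mod_cast h3
      have : (2 : ℤ) ≤ c.2.2.2 := by exact_mod_cast h9
      nlinarith
  have hhigh : (C.G.xu s 1)⁻¹ * v⁻¹ * C.G.xu s 1 * v ∈ C.G.Uge (K := K) (x + 1) := by
    refine comm_high C hsp 1 (fun r hr _ y hy => ?_) hv
    refine C.G.index_lt_of_ht_lt (r := ⟨x, hx'⟩) ?_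
    have := C.G.ht_lt (Fin.lt_def.2 (show k.val < r.val by omega))
    rw [ex', Good.ht_add]
    linarith
  set A := C.G.xu ⟨x, hx'⟩ ((D.chainM k.val s' 1 : K) * -t) * (R.map fun p => C.G.xu p.1 p.2).prod with hAdef
  have hAm : A ∈ C.G.Uge (K := K) x := mul_mem (hq0 _) (C.G.Uge_mono (Nat.le_succ _) hR)
  have hv0 : v⁻¹ ∈ C.G.Uge (K := K) 0 := inv_mem (C.G.Uge_mono (Nat.zero_le _) hv)
  refine ⟨(R.map fun p => C.G.xu p.1 p.2).prod *
    (A⁻¹ * ((C.G.xu s 1)⁻¹ * v⁻¹ * C.G.xu s 1 * v) * A * (A⁻¹ * v⁻¹ * A * v)), ?_, ?_⟩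
  · refine mul_mem hR (mul_mem ?_ ?_)
    · exact (Subgroup.mem_normalizer_iff''.1 (C.Uge_normal (C.G.Uge_mono (Nat.zero_le _) hAm)) _).1 hhigh
    · have := C.Uge_comm_mem (inv_mem hAm) hv0
      simpa using this
  · rw [← mul_assoc (C.G.xu ⟨x, hx'⟩ _), ← hAdef]
    have e : (C.G.xu s 1)⁻¹ * (C.G.xu k t * v)⁻¹ * C.G.xu s 1 * (C.G.xu k t * v) =
        ((C.G.xu s 1)⁻¹ * v⁻¹ * C.G.xu s 1 * v) * (v⁻¹ * ((C.G.xu s 1)⁻¹ * (C.G.xu k t)⁻¹ * C.G.xu s 1 *
          C.G.xu k t) * v) := by group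
    rw [e, hA]
    group

variable (C) in
theorem commute_term (hchk : chkTerms D (pClass p) = true) {k : Fin D.nroots}
    (hk : D.IsPosRoot k.val) (h : k.val ∈ termsB D (pClass p)) (t : K) {y : GL D.Idx K}
    (hy : y ∈ D.posUnipotent K) : Commute (C.G.xu k t) y := by
  have hle : D.posUnipotent K ≤ Subgroup.centralizer {C.G.xu k t} := by
    rw [C.G.posUnipotent_eq_closure, Subgroup.closure_le]
    rintro g ⟨r, a, hr, rfl⟩
    rw [SetLike.mem_coe, Subgroup.mem_centralizer_singleton_iff]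
    by_cases e : r = k
    · rw [e, ← C.G.xu_add, ← C.G.xu_add, add_comm]
    have hc := List.all_eq_true.1 (List.all_eq_true.1 hchk k.val h) r.val (mem_posRoots.2 ⟨r.isLt, hr⟩)
    simp only [Bool.or_eq_true, beq_iff_eq, List.all_eq_true, Bool.and_eq_true, Bool.not_eq_true',
      decide_eq_true_eq] at hc
    have hc' := hc.resolve_left fun e' => e (Fin.ext e')
    have hcm := C.commAt k r e (C.pos_ne_negr hk hr) t a
    unfold CommAt at hcm
    have h0 : wordR K D (cwR D k.val r.val t a) = 1 := by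
      refine List.prod_eq_one fun M hM => ?_
      obtain ⟨z, hz, rfl⟩ := List.mem_map.1 hM
      obtain ⟨c, hc1, rfl⟩ := List.mem_map.1 hz
      simp only [cast_eq_zero_of_nzB (K := K) p (hc' c hc1).2 (hc' c hc1).1, zero_mul, xN]
      split_ifs
      · exact xg_zero K _
      · rfl
    rw [h0, mul_one] at hcm
    exact Units.ext hcm
  exact (Subgroup.mem_centralizer_singleton_iff.1 (hle hy)).symm

variable (C) in
/-- an element whose conjugates of fixed elements are fixed -/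
theorem exists_fixed_mul_term (hchk : chkTerms D (pClass p) = true) :
    ∀ (d k : ℕ), k + d = D.nroots → ∀ u ∈ C.G.Uge (K := K) k,
      (∀ y ∈ D.posUnipotent K, fmap D σ y = y → fmap D σ (u⁻¹ * y * u) = u⁻¹ * y * u) →
      ∃ f ∈ D.posUnipotent K, fmap D σ f = f ∧ ∃ z ∈ Zt C K (pClass p), u = f * z := by
  intro d
  induction d with
  | zero =>
    intro k hk u hu _
    rw [C.G.Uge_top (by omega)] at hu
    exact ⟨1, one_mem _, map_one _, 1, one_mem _, by rw [Subgroup.mem_bot.1 hu, mul_one]⟩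
  | succ d ih =>
    intro k hk u hu hyp
    by_cases hp : D.IsPosRoot k
    swap
    · rw [C.Uge_skip hp] at hu
      exact ih (k + 1) (by omega) u hu hyp
    let r : Fin D.nroots := ⟨k, by omega⟩
    obtain ⟨t, v, hv, rfl⟩ := C.Uge_step (r := r) hp hu
    by_cases hl : leadB D (pClass p) k = true
    · obtain ⟨s, q, c, hs, hq, hkq, hc, hall⟩ := exists_lead_comm C (K := K) p (k := r) hp hl
      obtain ⟨w, hw, ew⟩ := hall t v hv
      have hfx := hyp _ (C.G.xu_mem_U hs 1) (by rw [C.G.fmap_xu, map_one])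
      have e1 : fmap D σ (C.G.xu q ((c : K) * -t) * w) = C.G.xu q ((c : K) * -t) * w := by
        rw [← ew, show (C.G.xu s 1)⁻¹ * (C.G.xu r t * v)⁻¹ * C.G.xu s 1 * (C.G.xu r t * v) =
          (C.G.xu s 1)⁻¹ * ((C.G.xu r t * v)⁻¹ * C.G.xu s 1 * (C.G.xu r t * v)) by group, map_mul, map_inv, hfx,
          C.G.fmap_xu, map_one]
      rw [map_mul, C.G.fmap_xu] at e1
      have ht : σ t = t := by
        have := (C.G.lowest_unique hq (C.G.fmap_mem_Uge σ _ hw) hw e1).1
        rw [map_mul, map_neg, map_intCast] at this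
        exact neg_injective (mul_left_cancel₀ hc this)
      obtain ⟨f, hfU, hf, z, hz, rfl⟩ := ih (k + 1) (by omega) v hv fun y hy hσy => by
        have := hyp (C.G.xu r t * y * (C.G.xu r t)⁻¹)
          (mul_mem (mul_mem (C.G.xu_mem_U hp t) hy) (inv_mem (C.G.xu_mem_U hp t)))
          (by rw [map_mul, map_mul, map_inv, hσy, C.G.fmap_xu, ht])
        rwa [show (C.G.xu r t * v)⁻¹ * (C.G.xu r t * y * (C.G.xu r t)⁻¹) * (C.G.xu r t * v) = v⁻¹ * y * v by
          group] at this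
      exact ⟨C.G.xu r t * f, mul_mem (C.G.xu_mem_U hp t) hfU, by rw [map_mul, C.G.fmap_xu, ht, hf], z, hz,
        by rw [mul_assoc]⟩
    · have hterm : r.val ∈ termsB D (pClass p) :=
        List.mem_filter.2 ⟨mem_posRoots.2 ⟨r.isLt, hp⟩, by simpa using hl⟩
      obtain ⟨f, hfU, hf, z, hz, rfl⟩ := ih (k + 1) (by omega) v hv fun y hy hσy => by
        have := hyp y hy hσy
        rwa [show (C.G.xu r t * v)⁻¹ * y * (C.G.xu r t * v) = v⁻¹ * ((C.G.xu r t)⁻¹ * (y * C.G.xu r t)) * v by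
          group, ← (commute_term C p hchk hp hterm t hy).eq, inv_mul_cancel_left] at this
      exact ⟨f, hfU, hf, C.G.xu r t * z, mul_mem (Subgroup.subset_closure ⟨r, t, hterm, rfl⟩) hz,
        by rw [← mul_assoc, (commute_term C p hchk hp hterm t hfU).eq, mul_assoc]⟩

variable {H : Subgroup (GL D.Idx K)}

/-- the unipotent elements are fixed -/
theorem Over.unip_fixed (O : Over C σ H) (hchk : chkTerms D (pClass p) = true)
    (hZ : ∀ z ∈ Zt C K (pClass p), z ∈ H → fmap D σ z = z) {u : GL D.Idx K}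
    (hu : u ∈ D.posUnipotent K) (huH : u ∈ H) : fmap D σ u = u := by
  suffices key : ∀ (d k : ℕ), k + d = D.nroots → ∀ u ∈ C.G.Uge (K := K) k, u ∈ H → fmap D σ u = u from
    key D.nroots 0 (Nat.zero_add _) u (by rwa [← C.G.posUnipotent_eq]) huH
  intro d
  induction d with
  | zero =>
    intro k hk u hu _
    rw [C.G.Uge_top (by omega)] at hu
    rw [Subgroup.mem_bot.1 hu, map_one]
  | succ d ih =>
    intro k hk u hu huH
    obtain ⟨f, hfU, hf, z, hz, rfl⟩ := exists_fixed_mul_term C (σ := σ) p hchk (d + 1) k hk u hu fun y hy hσy => by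
      have hyH : y ∈ H := O.fixU_mem hy hσy
      have h2 : y⁻¹ * (u⁻¹ * y * u) ∈ C.G.Uge (K := K) (k + 1) := by
        have hy0 : y ∈ C.G.Uge (K := K) 0 := by rwa [← C.G.posUnipotent_eq]
        have := (Subgroup.mem_normalizer_iff''.1 (C.Uge_normal hy0) _).1 (C.Uge_comm_mem (inv_mem hu) hy0)
        simpa [mul_assoc] using this
      have h3 := ih (k + 1) (by omega) _ h2 (mul_mem (inv_mem hyH) (mul_mem (mul_mem (inv_mem huH) hyH) huH))
      rw [map_mul, map_inv, hσy] at h3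
      exact mul_left_cancel h3
    have hfH : f ∈ H := O.fixU_mem hfU hf
    rw [map_mul, hf, hZ z hz (by simpa using mul_mem (inv_mem hfH) huH)]

/-- a single terminal root -/
theorem Over.term_one (O : Over C σ H) {θ : Fin D.nroots} (hterms : termsB D (pClass p) = [θ.val])
    (hrat : ∀ (r : Fin D.nroots) (t : K), C.G.xu r t ∈ H → σ t = t) :
    ∀ z ∈ Zt C K (pClass p), z ∈ H → fmap D σ z = z := by
  intro z hz hzH
  obtain ⟨t, rfl⟩ : ∃ t, z = C.G.xu θ t := by
    clear hzH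
    induction hz using Subgroup.closure_induction with
    | one => exact ⟨0, (C.G.xu_zero _).symm⟩
    | mul a b _ _ ha hb =>
      obtain ⟨s, rfl⟩ := ha; obtain ⟨t, rfl⟩ := hb; exact ⟨s + t, (C.G.xu_add _ _ _).symm⟩
    | inv a _ ha => obtain ⟨s, rfl⟩ := ha; exact ⟨-s, C.G.xu_inv _ _⟩
    | mem x hx =>
      obtain ⟨r, t, hr, rfl⟩ := hx
      rw [hterms, List.mem_singleton] at hr
      exact ⟨t, by rw [Fin.ext hr]⟩
  rw [C.G.fmap_xu, hrat θ t hzH]

end CfsgLib.Lie.Chev.Sub
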